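import Mathlib

/-!
# Two vectors with trivial common stabiliser: definitions and elementary reductions
-/

set_option autoImplicit false

namespace Cfsg.Agent.BC85.BaseTwo

section Defs

variable (H V : Type) [Group H] [AddCommGroup V] [DistribMulAction H V]

/-- The subgroup `U` is invariant. -/
def Inv (U : AddSubgroup V) : Prop := ∀ h : H, ∀ v ∈ U, h • v ∈ U

/-- Every invariant subgroup has an invariant complement. -/
def CR : Prop := ∀ U : AddSubgroup V, Inv H V U →
  ∃ W : AddSubgroup V, Inv H V W ∧ U ⊓ W = ⊥ ∧ U ⊔ W = ⊤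

/-- No invariant subgroup besides the trivial ones. -/
def Irr : Prop := (∃ v : V, v ≠ 0) ∧ ∀ U : AddSubgroup V, Inv H V U → U = ⊥ ∨ U = ⊤

variable {H} in
/-- The element `h` acts trivially. -/
def Triv (h : H) : Prop := ∀ v : V, h • v = v

/-- Only the elements acting trivially fix both vectors of the pair. -/
def Reg (p : V × V) : Prop := ∀ h : H, h • p.1 = p.1 → h • p.2 = p.2 → Triv V h

end Defs

/-- Groups of odd order are solvable. -/
def SolvOdd : Prop := ∀ (G : Type) [Group G] [Finite G], Odd (Nat.card G) → Group.IsSolvable G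

/-- The induction hypothesis: modules of order at most `n` have regular pairs. -/
def Lin (n : ℕ) : Prop :=
  ∀ (V : Type) [AddCommGroup V] [Finite V] (H : Type) [Group H] [Finite H] [DistribMulAction H V],
    Nat.card V ≤ n → Odd (Nat.card H) → CR H V → ∃ p : V × V, Reg H V p

variable {H V : Type} [Group H] [AddCommGroup V] [DistribMulAction H V]

variable (H V) in
/-- The kernel of the action. -/
def ker : Subgroup H := (MulAction.toPermHom H V).ker

theorem mem_ker {h : H} : h ∈ ker H V ↔ Triv V h := by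
  simp only [ker, MonoidHom.mem_ker, Equiv.Perm.ext_iff, MulAction.toPermHom_apply,
    MulAction.toPerm_apply, Equiv.Perm.coe_one, id_eq, Triv]

instance ker_normal : (ker H V).Normal := by unfold ker; infer_instance

theorem triv_of_sq (hodd : Odd (Nat.card H)) {h : H} (h2 : Triv V (h * h)) : Triv V h := by
  obtain ⟨k, hk⟩ := hodd
  have e : h = ((h * h) ^ k)⁻¹ := by
    refine eq_inv_of_mul_eq_one_left ?_
    rw [← pow_two, ← pow_mul, ← pow_succ', ← hk, pow_card_eq_one']
  rw [e, ← mem_ker]
  exact inv_mem (pow_mem (mem_ker.mpr h2) k)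

theorem reg_smul {p : V × V} (hp : Reg H V p) (a : H) : Reg H V (a • p) := by
  intro h h1 h2
  have hc : Triv V (a⁻¹ * h * a) := by
    refine hp _ ?_ ?_
    · have : h • a • p.1 = a • p.1 := h1
      rw [mul_smul, mul_smul, this, inv_smul_smul]
    · have : h • a • p.2 = a • p.2 := h2
      rw [mul_smul, mul_smul, this, inv_smul_smul]
  intro v
  have := hc (a⁻¹ • v)
  rwa [mul_smul, mul_smul, smul_inv_smul, smul_left_cancel_iff] at this

/-- A nonzero module with one regular pair has two inequivalent ones. -/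
theorem exists_two (hodd : Odd (Nat.card H)) (hV : ∃ v : V, v ≠ 0) {p : V × V} (hp : Reg H V p) :
    ∃ c : Bool → V × V, (∀ b, Reg H V (c b)) ∧ ∀ (h : H) b b', h • c b = c b' → b = b' := by
  obtain ⟨x, y⟩ := p
  by_cases hxy : x = y
  · subst hxy
    by_cases hx : x = 0
    · subst hx
      obtain ⟨v, hv⟩ := hV
      have hall : ∀ h : H, Triv V h := fun h => hp h (smul_zero h) (smul_zero h)
      refine ⟨fun b => if b then (v, 0) else (0, 0), fun b h _ _ => hall h, ?_⟩
      intro h b b' he
      cases b <;> cases b' <;>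
        simp only [Bool.false_eq_true, if_false, if_true, Prod.smul_mk, smul_zero, Prod.mk.injEq,
          hall h v] at he ⊢
      · exact (hv he.1.symm).elim
      · exact (hv he.1).elim
    · refine ⟨fun b => if b then (x, 0) else (0, x), fun b h h1 h2 => ?_, ?_⟩
      · cases b <;> simp only [Bool.false_eq_true, if_false, if_true] at h1 h2
        · exact hp h h2 h2
        · exact hp h h1 h1
      intro h b b' he
      cases b <;> cases b' <;>
        simp only [Bool.false_eq_true, if_false, if_true, Prod.smul_mk, smul_zero, Prod.mk.injEq]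
          at he ⊢
      · exact (hx he.1.symm).elim
      · exact (hx he.2.symm).elim
  · refine ⟨fun b => if b then (x, y) else (y, x), fun b h h1 h2 => ?_, ?_⟩
    · cases b <;> simp only [Bool.false_eq_true, if_false, if_true] at h1 h2
      · exact hp h h2 h1
      · exact hp h h1 h2
    intro h b b' he
    have key : h • x = y → h • y = x → False := fun e1 e2 => by
      have h2 : Triv V (h * h) := hp _ (by rw [mul_smul, e1, e2]) (by rw [mul_smul, e2, e1])
      exact hxy ((triv_of_sq hodd h2 x).symm.trans e1)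
    cases b <;> cases b' <;>
      simp only [Bool.false_eq_true, if_false, if_true, Prod.smul_mk, Prod.mk.injEq] at he ⊢
    · exact (key he.2 he.1).elim
    · exact (key he.1 he.2).elim

/-- The action on an invariant subgroup. -/
@[reducible] def restrict (U : AddSubgroup V) (hU : Inv H V U) : DistribMulAction H U where
  smul h u := ⟨h • (u : V), hU h u u.2⟩
  one_smul u := Subtype.ext (one_smul H (u : V))
  mul_smul a b u := Subtype.ext (mul_smul a b (u : V))
  smul_zero h := Subtype.ext (smul_zero h)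
  smul_add h u w := Subtype.ext (smul_add h (u : V) w)

theorem cr_restrict (hcr : CR H V) (U : AddSubgroup V) (hU : Inv H V U) :
    @CR H U _ _ (restrict U hU) := by
  letI := restrict U hU
  intro X hX
  have hX' : Inv H V (X.map U.subtype) := by
    intro h v hv
    obtain ⟨u, hu, rfl⟩ := AddSubgroup.mem_map.mp hv
    exact AddSubgroup.mem_map.mpr ⟨h • u, hX h u hu, rfl⟩
  obtain ⟨W, hW, hinf, hsup⟩ := hcr _ hX'
  refine ⟨W.addSubgroupOf U, fun h u hu => ?_, ?_, ?_⟩
  · rw [AddSubgroup.mem_addSubgroupOf] at hu ⊢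
    exact hW h _ hu
  · refine le_bot_iff.mp fun u hu => ?_
    have h1 : (u : V) ∈ X.map U.subtype ⊓ W :=
      ⟨AddSubgroup.mem_map.mpr ⟨u, hu.1, rfl⟩, AddSubgroup.mem_addSubgroupOf.mp hu.2⟩
    rw [hinf, AddSubgroup.mem_bot] at h1
    exact AddSubgroup.mem_bot.mpr (Subtype.ext h1)
  · refine eq_top_iff.mpr fun u _ => ?_
    have h1 : (u : V) ∈ X.map U.subtype ⊔ W := by rw [hsup]; trivial
    obtain ⟨a, ha, w, hw, e⟩ := AddSubgroup.mem_sup.mp h1
    obtain ⟨a', ha', rfl⟩ := AddSubgroup.mem_map.mp ha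
    have hwU : w ∈ U := by
      have : w = (u : V) - (a' : V) := by rw [← e]; simp
      rw [this]; exact U.sub_mem u.2 a'.2
    exact AddSubgroup.mem_sup.mpr ⟨a', ha', ⟨w, hwU⟩, AddSubgroup.mem_addSubgroupOf.mpr hw,
      Subtype.ext e⟩

theorem irr_cr (hirr : Irr H V) : CR H V := by
  intro U hU
  rcases hirr.2 U hU with rfl | rfl
  · exact ⟨⊤, fun _ _ _ => trivial, bot_inf_eq _, bot_sup_eq _⟩
  · refine ⟨⊥, fun h v hv => ?_, inf_bot_eq _, sup_bot_eq _⟩
    rw [AddSubgroup.mem_bot.mp hv, smul_zero]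
    exact AddSubgroup.zero_mem _

theorem card_lt_of_ne_top [Finite V] {U : AddSubgroup V} (hne : U ≠ ⊤) :
    Nat.card U < Nat.card V :=
  lt_of_le_of_ne (AddSubgroup.card_le_card_addGroup U)
    fun e => hne (AddSubgroup.eq_top_of_card_eq U e)

/-- It is enough to treat irreducible modules. -/
theorem lin_succ {n : ℕ} (hlin : Lin n)
    (hirr : ∀ (V : Type) [AddCommGroup V] [Finite V] (H : Type) [Group H] [Finite H]
      [DistribMulAction H V], Nat.card V ≤ n + 1 → Odd (Nat.card H) → Irr H V →
        ∃ p : V × V, Reg H V p) :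
    Lin (n + 1) := by
  intro V _ _ H _ _ _ hn hodd hcr
  by_cases hV : ∃ v : V, v ≠ 0
  swap
  · push Not at hV
    exact ⟨(0, 0), fun h _ _ v => by rw [hV v, smul_zero]⟩
  by_cases hi : Irr H V
  · exact hirr V H hn hodd hi
  obtain ⟨U, hU, hU0, hU1⟩ : ∃ U, Inv H V U ∧ U ≠ ⊥ ∧ U ≠ ⊤ := by
    by_contra hno
    refine hi ⟨hV, fun U hU => ?_⟩
    by_contra hne
    exact hno ⟨U, hU, fun e => hne (Or.inl e), fun e => hne (Or.inr e)⟩
  obtain ⟨W, hW, hinf, hsup⟩ := hcr U hU
  have hW1 : W ≠ ⊤ := by
    rintro rfl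
    exact hU0 (by rw [← hinf, inf_top_eq])
  letI iU := restrict U hU
  letI iW := restrict W hW
  obtain ⟨p, hp⟩ := hlin U H (by have := card_lt_of_ne_top hU1; omega) hodd (cr_restrict hcr U hU)
  obtain ⟨q, hq⟩ := hlin W H (by have := card_lt_of_ne_top hW1; omega) hodd (cr_restrict hcr W hW)
  refine ⟨((p.1 : V) + q.1, (p.2 : V) + q.2), fun h h1 h2 => ?_⟩
  have split : ∀ (u : U) (w : W), h • ((u : V) + w) = u + w → h • u = u ∧ h • w = w := by
    intro u w he
    rw [smul_add] at he
    have hd : (h • u - u : U).1 = (w - h • w : W).1 := by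
      show h • (u : V) - u = w - h • (w : V)
      rw [sub_eq_sub_iff_add_eq_add, add_comm (w : V) u]
      exact he
    have hm : (h • u - u : U).1 ∈ U ⊓ W := ⟨SetLike.coe_mem _, hd ▸ SetLike.coe_mem _⟩
    rw [hinf, AddSubgroup.mem_bot] at hm
    exact ⟨sub_eq_zero.mp (Subtype.ext hm),
      (sub_eq_zero.mp (Subtype.ext (hd.symm.trans hm) : w - h • w = 0)).symm⟩
  obtain ⟨hu1, hw1⟩ := split _ _ h1
  obtain ⟨hu2, hw2⟩ := split _ _ h2
  intro v
  obtain ⟨u, hu, w, hw, rfl⟩ := AddSubgroup.mem_sup.mp (hsup ▸ AddSubgroup.mem_top v : v ∈ U ⊔ W)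
  have e1 : h • u = u := congrArg Subtype.val (hp h hu1 hu2 ⟨u, hu⟩)
  have e2 : h • w = w := congrArg Subtype.val (hq h hw1 hw2 ⟨w, hw⟩)
  rw [smul_add, e1, e2]

/-- A regular pair bounds the order of the acting group modulo the kernel. -/
theorem index_ker_le [Finite H] [Finite V] {p : V × V} (hp : Reg H V p) :
    (ker H V).index ≤ Nat.card V ^ 2 := by
  have hst : MulAction.stabilizer H p = ker H V := by
    ext h
    rw [MulAction.mem_stabilizer_iff, mem_ker]
    refine ⟨fun he => hp h (congrArg Prod.fst he) (congrArg Prod.snd he), fun he => ?_⟩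
    exact Prod.ext (he p.1) (he p.2)
  rw [← hst, MulAction.index_stabilizer, pow_two, ← Nat.card_prod]
  rw [← Nat.card_coe_set_eq]
  exact Nat.card_le_card_of_injective _ Subtype.val_injective

end Cfsg.Agent.BC85.BaseTwo
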