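import Mathlib

/-!
# The section above a maximal abelian normal subgroup
-/

set_option autoImplicit false

namespace Cfsg.Agent.BC85.BaseTwo

open scoped commutatorElement

/-- A finite group has at most as many characters into a field as it has elements. -/
theorem card_char_le (X : Type) [Group X] [Finite X] (K : Type) [Field K] [Finite K] :
    Nat.card (X →* Kˣ) ≤ Nat.card X := by
  classical
  haveI : Fintype X := Fintype.ofFinite X
  haveI : Finite (X →* Kˣ) := Finite.of_injective _ DFunLike.coe_injective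
  haveI : Fintype (X →* Kˣ) := Fintype.ofFinite _
  have hinj : Function.Injective (fun f : X →* Kˣ => (Units.coeHom K).comp f) := fun f g h =>
    MonoidHom.ext fun x => Units.ext (DFunLike.congr_fun h x)
  have h := ((linearIndependent_monoidHom X K).comp _ hinj).fintype_card_le_finrank
  rwa [Module.finrank_pi, ← Nat.card_eq_fintype_card, ← Nat.card_eq_fintype_card] at h

/-- A pairing into a field bounds the index of its kernel. -/
theorem index_ker_le_of_pairing {A B : Type} [Group A] [Group B] [Finite A] [Finite B]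
    {K : Type} [Field K] [Finite K] (B0 : Subgroup B) [B0.Normal] (f : A →* (B →* Kˣ))
    (hf : ∀ a, ∀ b ∈ B0, f a b = 1) : f.ker.index ≤ B0.index := by
  haveI : Finite (B ⧸ B0 →* Kˣ) := Finite.of_injective _ DFunLike.coe_injective
  rw [Subgroup.index_ker]
  refine le_trans (Nat.card_le_card_of_injective
    (fun φ : f.range => QuotientGroup.lift B0 (φ : B →* Kˣ) (by
      obtain ⟨φ, a, rfl⟩ := φ
      exact fun b hb => hf a b hb)) ?_) (card_char_le (B ⧸ B0) K)
  intro φ φ' h
  apply Subtype.ext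
  ext b
  have h1 := DFunLike.congr_fun h (b : B ⧸ B0)
  simpa using congrArg Units.val h1

section

variable {H : Type} [Group H] [Finite H] (U : Subgroup H) [U.Normal]
  {K : Type} [Field K] [Finite K]

/-- Commutators with values in a central subgroup that embeds in a field. -/
theorem relIndex_centralizer_le (ι : U →* Kˣ) (hι : Function.Injective ι) (P Q B0 : Subgroup H)
    (hP : P ≤ Subgroup.centralizer (U : Set H)) (hQ : Q ≤ Subgroup.centralizer (U : Set H))
    (hPQ : ∀ a ∈ P, ∀ b ∈ Q, ⁅a, b⁆ ∈ U) (hB0Q : B0 ≤ Q) (hB0n : (B0.subgroupOf Q).Normal)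
    (hB0 : ∀ a ∈ P, ∀ b ∈ B0, a * b = b * a) :
    (Subgroup.centralizer (Q : Set H)).relIndex P ≤ B0.relIndex Q := by
  haveI := hB0n
  have hcen : ∀ a ∈ Subgroup.centralizer (U : Set H), ∀ u ∈ U, a * u * a⁻¹ = u := fun a ha u hu => by
    rw [← Subgroup.mem_centralizer_iff.mp ha u hu, mul_inv_cancel_right]
  let c : P → Q → U := fun a b => ⟨⁅(a : H), (b : H)⁆, hPQ a a.2 b b.2⟩
  have hr : ∀ (a : P) (b b' : Q), c a (b * b') = c a b * c a b' := by
    intro a b b'
    apply Subtype.ext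
    show ⁅(a : H), (b : H) * (b' : H)⁆ = ⁅(a : H), (b : H)⁆ * ⁅(a : H), (b' : H)⁆
    conv_rhs => rw [← hcen b (hQ b.2) ⁅(a : H), (b' : H)⁆ (hPQ a a.2 b' b'.2)]
    simp only [commutatorElement_def]
    group
  have hl : ∀ (a a' : P) (b : Q), c (a * a') b = c a b * c a' b := by
    intro a a' b
    apply Subtype.ext
    show ⁅(a : H) * (a' : H), (b : H)⁆ = ⁅(a : H), (b : H)⁆ * ⁅(a' : H), (b : H)⁆
    have hu := hPQ a' a'.2 b b.2
    have hu2 := hPQ a a.2 b b.2
    have h1 : ⁅(a : H) * (a' : H), (b : H)⁆ = ((a : H) * ⁅(a' : H), (b : H)⁆ * (a : H)⁻¹) * ⁅(a : H), (b : H)⁆ := by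
      simp only [commutatorElement_def]; group
    rw [h1, hcen a (hP a.2) _ hu]
    -- the values commute
    exact congrArg Subtype.val
      (hι (by rw [map_mul, map_mul, mul_comm]) : (⟨_, hu⟩ : U) * ⟨_, hu2⟩ = ⟨_, hu2⟩ * ⟨_, hu⟩)
  let ψ : P →* (Q →* Kˣ) :=
    MonoidHom.mk' (fun a => MonoidHom.mk' (fun b => ι (c a b))
      (fun b b' => by show ι (c a (b * b')) = ι (c a b) * ι (c a b'); rw [hr, map_mul]))
      (fun a a' => MonoidHom.ext fun b => by
        show ι (c (a * a') b) = ι (c a b) * ι (c a' b)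
        rw [hl, map_mul])
  have hker : ψ.ker = (Subgroup.centralizer (Q : Set H)).subgroupOf P := by
    ext a
    rw [MonoidHom.mem_ker, Subgroup.mem_subgroupOf, Subgroup.mem_centralizer_iff]
    constructor
    · intro h b hb
      have h1 : ι (c a ⟨b, hb⟩) = 1 := DFunLike.congr_fun h (⟨b, hb⟩ : Q)
      rw [map_eq_one_iff _ hι] at h1
      exact (commutatorElement_eq_one_iff_mul_comm.mp (congrArg Subtype.val h1)).symm
    · intro h
      ext b
      show ((ι (c a b) : Kˣ) : K) = 1
      rw [show c a b = 1 from Subtype.ext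
        (commutatorElement_eq_one_iff_mul_comm.mpr (h b b.2).symm), map_one, Units.val_one]
  have h := index_ker_le_of_pairing (B0.subgroupOf Q) ψ (fun a b hb => by
    show ι (c a b) = 1
    rw [show c a b = 1 from Subtype.ext (commutatorElement_eq_one_iff_mul_comm.mpr
      (hB0 a a.2 b (Subgroup.mem_subgroupOf.mp hb))), map_one])
  rwa [hker] at h

theorem eq_bot_of_perfect {G : Type} [Group G] [Group.IsSolvable G] (M : Subgroup G)
    (h : ⁅M, M⁆ = M) : M = ⊥ := by
  obtain ⟨n, hn⟩ := (Group.isSolvable_def G).mp inferInstance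
  have : ∀ k, M ≤ derivedSeries G k := by
    intro k
    induction k with
    | zero => rw [derivedSeries_zero]; exact le_top
    | succ k ih =>
      rw [derivedSeries_succ, ← h]
      exact Subgroup.commutator_mono ih ih
  exact le_bot_iff.mp (hn ▸ this n)

/-- The properties of the section above a maximal abelian normal subgroup. -/
structure IsSec (N : Subgroup H) : Prop where
  normal : N.Normal
  le : U ≤ N
  ne : N ≠ U
  cen : N ≤ Subgroup.centralizer (U : Set H)
  comm : ∀ a ∈ N, ∀ b ∈ N, ⁅a, b⁆ ∈ U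
  centre : ∀ g ∈ Subgroup.centralizer (U : Set H), (∀ y ∈ N, g * y = y * g) → g ∈ U
  faithful : ∀ g ∈ Subgroup.centralizer (U : Set H), (∀ y ∈ N, ⁅g, y⁆ ∈ U) → g ∈ N
  compl : ∀ W : Subgroup H, W.Normal → U ≤ W → W ≤ N →
    ∃ W' : Subgroup H, W'.Normal ∧ U ≤ W' ∧ W' ≤ N ∧ W ⊓ W' = U ∧ W ⊔ W' = N
  square : ∃ e, U.relIndex N = e ^ 2

/-- Existence of the section. -/
theorem exists_sec [Group.IsSolvable H] (hab : ∀ a ∈ U, ∀ b ∈ U, a * b = b * a)
    (hmax : ∀ A : Subgroup H, A.Normal → U ≤ A → (∀ a ∈ A, ∀ b ∈ A, a * b = b * a) → A = U)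
    (ι : U →* Kˣ) (hι : Function.Injective ι) (hCU : Subgroup.centralizer (U : Set H) ≠ U) :
    ∃ N : Subgroup H, IsSec U N := by
  set C := Subgroup.centralizer (U : Set H) with hC
  haveI hCn : C.Normal := inferInstance
  have hUC : U ≤ C := fun a ha => Subgroup.mem_centralizer_iff.mpr fun b hb => hab b hb a ha
  let S : Set (Subgroup H) := {M | M.Normal ∧ U ≤ M ∧ M ≤ C ∧ M ≠ U}
  have hbelow : ∀ W ∈ S, ∃ M, M ≤ W ∧ Minimal (· ∈ S) M := fun W hW =>
    (Set.toFinite S).exists_le_minimal hW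
  let T : Set (Subgroup H) := {M | Minimal (· ∈ S) M}
  let N : Subgroup H := sSup T
  have hTle : ∀ M ∈ T, M ≤ N := fun M hM => le_sSup hM
  have hNC : N ≤ C := sSup_le fun M hM => hM.1.2.2.1
  obtain ⟨M0, hM0le, hM0⟩ := hbelow C ⟨hCn, hUC, le_rfl, hCU⟩
  have hUN : U ≤ N := hM0.1.2.1.trans (hTle M0 hM0)
  have hNU : N ≠ U := fun h => hM0.1.2.2.2 (le_antisymm ((hTle M0 hM0).trans h.le) hM0.1.2.1)
  haveI hNn : N.Normal := by
    refine ⟨fun x hx g => ?_⟩
    have hle : N ≤ N.comap (MulAut.conj g).toMonoidHom := sSup_le fun M hM y hy =>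
      hTle M hM (hM.1.1.conj_mem y hy g)
    exact hle hx
  set π := QuotientGroup.mk' U with hπ
  have hπmem : ∀ a b : H, π a * π b = π b * π a ↔ ⁅a, b⁆ ∈ U := fun a b => by
    rw [← commutatorElement_eq_one_iff_mul_comm, ← map_commutatorElement, ← MonoidHom.mem_ker,
      hπ, QuotientGroup.ker_mk']
  have hMM : ∀ M ∈ T, ∀ M' ∈ T, ⁅M, M'⁆ ≤ U := by
    intro M hM M' hM'
    haveI := hM.1.1
    haveI := hM'.1.1
    by_cases he : M = M'
    · subst he
      by_contra hne
      have hD : (⁅M, M⁆ ⊔ U) ∈ S := by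
        refine ⟨inferInstance, le_sup_right, sup_le ((Subgroup.commutator_le_left M M).trans hM.1.2.2.1) hUC,
          fun h => hne (le_sup_left.trans h.le)⟩
      have heq : ⁅M, M⁆ ⊔ U = M :=
        le_antisymm (sup_le (Subgroup.commutator_le_left M M) hM.1.2.1)
          (hM.2 hD (sup_le (Subgroup.commutator_le_left M M) hM.1.2.1))
      have hperf : ⁅M.map π, M.map π⁆ = M.map π := by
        rw [← Subgroup.map_commutator]
        conv_rhs => rw [← heq, Subgroup.map_sup,
          show U.map π = ⊥ from (Subgroup.map_eq_bot_iff _).mpr (by rw [hπ, QuotientGroup.ker_mk']),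
          sup_bot_eq]
      have hbot := eq_bot_of_perfect _ hperf
      rw [Subgroup.map_eq_bot_iff, hπ, QuotientGroup.ker_mk'] at hbot
      exact hM.1.2.2.2 (le_antisymm hbot hM.1.2.1)
    · refine (Subgroup.commutator_le_inf M M').trans ?_
      by_contra hne
      have hI : M ⊓ M' ∈ S := ⟨inferInstance, le_inf hM.1.2.1 hM'.1.2.1,
        inf_le_left.trans hM.1.2.2.1, fun h => hne h.le⟩
      have h1 := hM.2 hI inf_le_left
      have h2 := hM'.2 hI inf_le_right
      exact he (le_antisymm (h1.trans inf_le_right) (h2.trans inf_le_left))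
  have hNN : ∀ a ∈ N, ∀ b ∈ N, ⁅a, b⁆ ∈ U := by
    have key : N ≤ (Subgroup.centralizer ((N.map π : Subgroup (H ⧸ U)) : Set (H ⧸ U))).comap π := by
      refine sSup_le fun M hM a ha => ?_
      rw [Subgroup.mem_comap, Subgroup.mem_centralizer_iff]
      rintro _ ⟨b, hb, rfl⟩
      have h2 : N ≤ (Subgroup.centralizer ({π a} : Set (H ⧸ U))).comap π := by
        refine sSup_le fun M' hM' b' hb' => ?_
        rw [Subgroup.mem_comap, Subgroup.mem_centralizer_singleton_iff]
        exact (hπmem b' a).mpr (hMM M' hM' M hM (Subgroup.commutator_mem_commutator hb' ha))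
      exact Subgroup.mem_centralizer_singleton_iff.mp (h2 hb)
    intro a ha b hb
    exact (hπmem a b).mp
      ((Subgroup.mem_centralizer_iff.mp (key ha) (π b) (Subgroup.mem_map_of_mem π hb)).symm)
  have hcentre : ∀ g ∈ C, (∀ y ∈ N, g * y = y * g) → g ∈ U := by
    intro g hg hgy
    by_contra hgU
    let D : Subgroup H := C ⊓ Subgroup.centralizer (N : Set H)
    have hgD : g ∈ D := ⟨hg, Subgroup.mem_centralizer_iff.mpr fun y hy => (hgy y hy).symm⟩
    have hUD : U ≤ D := fun u hu => ⟨hUC hu, Subgroup.mem_centralizer_iff.mpr fun y hy =>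
      (Subgroup.mem_centralizer_iff.mp (hNC hy) u hu).symm⟩
    obtain ⟨M, hMD, hM⟩ := hbelow D ⟨inferInstance, hUD, inf_le_left, fun h => hgU (h ▸ hgD)⟩
    refine hM.1.2.2.2 (hmax M hM.1.1 hM.1.2.1 fun a ha b hb => ?_)
    exact (Subgroup.mem_centralizer_iff.mp (hMD ha).2 b (hTle M hM hb)).symm
  have hsubn : ∀ B : Subgroup H, U ≤ B → B ≤ N → (B.subgroupOf N).Normal := by
    intro B hUB hBN
    refine ⟨fun x hx y => ?_⟩
    rw [Subgroup.mem_subgroupOf] at hx ⊢
    have h1 := hUB (hNN y y.2 x x.2)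
    have h2 : (y : H) * x * (y : H)⁻¹ = ⁅(y : H), (x : H)⁆ * x := by
      simp only [commutatorElement_def]; group
    show (y : H) * x * (y : H)⁻¹ ∈ B
    rw [h2]
    exact B.mul_mem h1 hx
  have hUinf : ∀ P : Subgroup H, U ≤ P → P ≤ C → Subgroup.centralizer (N : Set H) ⊓ P = U := by
    intro P hUP hPC
    refine le_antisymm (fun g hg => hcentre g (hPC hg.2) fun y hy =>
      (Subgroup.mem_centralizer_iff.mp hg.1 y hy).symm) (le_inf (fun u hu => ?_) hUP)
    exact Subgroup.mem_centralizer_iff.mpr fun y hy =>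
      (Subgroup.mem_centralizer_iff.mp (hNC hy) u hu).symm
  refine ⟨N, ⟨hNn, hUN, hNU, hNC, hNN, hcentre, ?_, ?_, ?_⟩⟩
  · -- faithfulness on the section
    let D : Subgroup H := C ⊓ (Subgroup.centralizer ((N.map π : Subgroup (H ⧸ U)) : Set (H ⧸ U))).comap π
    have hDmem : ∀ g, g ∈ D ↔ g ∈ C ∧ ∀ y ∈ N, ⁅g, y⁆ ∈ U := by
      intro g
      rw [Subgroup.mem_inf, Subgroup.mem_comap, Subgroup.mem_centralizer_iff]
      refine and_congr_right fun _ => ⟨fun h y hy => (hπmem g y).mp (h _ (Subgroup.mem_map_of_mem π hy)).symm,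
        fun h => ?_⟩
      rintro _ ⟨y, hy, rfl⟩
      exact ((hπmem g y).mpr (h y hy)).symm
    have hND : N ≤ D := fun a ha => (hDmem a).mpr ⟨hNC ha, fun y hy => hNN a ha y hy⟩
    intro g hg hgy
    have h1 := relIndex_centralizer_le U ι hι D N U (fun a ha => ha.1) hNC
      (fun a ha b hb => ((hDmem a).mp ha).2 b hb) hUN (hsubn U le_rfl hUN)
      (fun a ha u hu => (Subgroup.mem_centralizer_iff.mp ha.1 u hu).symm)
    rw [← Subgroup.inf_relIndex_right, hUinf D (hUN.trans hND) inf_le_left,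
      ← Subgroup.relIndex_mul_relIndex U N D hUN hND] at h1
    have h0 : 0 < U.relIndex N := Nat.pos_of_ne_zero Subgroup.index_ne_zero_of_finite
    have h00 : N.relIndex D ≠ 0 := Subgroup.index_ne_zero_of_finite
    have h2 : N.relIndex D = 1 := by
      have : U.relIndex N * N.relIndex D ≤ U.relIndex N * 1 := by rwa [mul_one]
      have := Nat.le_of_mul_le_mul_left this h0
      omega
    exact Subgroup.relIndex_eq_one.mp h2 ((hDmem g).mpr ⟨hg, hgy⟩)
  · -- complements
    intro W hWn hUW hWN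
    obtain ⟨W', ⟨hW'n, hUW', hW'N, hinf⟩, hW'max⟩ := Set.Finite.exists_maximal
      (s := {W' : Subgroup H | W'.Normal ∧ U ≤ W' ∧ W' ≤ N ∧ W ⊓ W' = U}) (Set.toFinite _)
      ⟨U, inferInstance, le_rfl, hUN, inf_eq_right.mpr hUW⟩
    refine ⟨W', hW'n, hUW', hW'N, hinf, le_antisymm (sup_le hWN hW'N) (sSup_le fun M hM => ?_)⟩
    by_contra hnle
    haveI := hWn
    haveI := hW'n
    haveI := hM.1.1
    have hMI : M ⊓ (W ⊔ W') ≤ U := by
      by_contra hne
      have hI : M ⊓ (W ⊔ W') ∈ S := ⟨inferInstance, le_inf hM.1.2.1 (hUW.trans le_sup_left),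
        inf_le_left.trans hM.1.2.2.1, fun h => hne h.le⟩
      exact hnle ((hM.2 hI inf_le_left).trans inf_le_right)
    have hnew : W ⊓ (W' ⊔ M) = U := by
      refine le_antisymm (fun w hw => ?_) (le_inf hUW (hUW'.trans le_sup_left))
      obtain ⟨hwW, hwS⟩ := hw
      obtain ⟨a, ha, m, hm, rfl⟩ := Subgroup.mem_sup_of_normal_right.mp hwS
      have hm' : m ∈ W ⊔ W' := by
        have : a⁻¹ * (a * m) ∈ W ⊔ W' :=
          Subgroup.mul_mem _ (Subgroup.mem_sup_right (inv_mem ha)) (Subgroup.mem_sup_left hwW)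
        rwa [inv_mul_cancel_left] at this
      rw [← hinf]
      exact ⟨hwW, W'.mul_mem ha (hUW' (hMI ⟨hm, hm'⟩))⟩
    have hle : W' ⊔ M ≤ W' := hW'max ⟨inferInstance, hUW'.trans le_sup_left,
      sup_le hW'N (hTle M hM), hnew⟩ le_sup_left
    exact hnle ((le_sup_right.trans hle).trans le_sup_right)
  · -- a maximal abelian subgroup
    obtain ⟨A, ⟨hUA, hAN, hAab⟩, hAmax⟩ := Set.Finite.exists_maximal
      (s := {A : Subgroup H | U ≤ A ∧ A ≤ N ∧ A ≤ Subgroup.centralizer (A : Set H)}) (Set.toFinite _)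
      ⟨U, le_rfl, hUN, hUC⟩
    have hcA : Subgroup.centralizer (A : Set H) ⊓ N = A := by
      refine le_antisymm (fun y hy => ?_) (le_inf hAab hAN)
      have hsup : A ⊔ Subgroup.zpowers y ≤ Subgroup.centralizer ((A ⊔ Subgroup.zpowers y : Subgroup H) : Set H) := by
        have hy' : Subgroup.zpowers y ≤ Subgroup.centralizer (A : Set H) := Subgroup.zpowers_le.mpr hy.1
        have hy2 : Subgroup.zpowers y ≤ Subgroup.centralizer (Subgroup.zpowers y : Set H) := by
          intro a ha
          rw [Subgroup.mem_centralizer_iff]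
          intro b hb
          obtain ⟨i, rfl⟩ := Subgroup.mem_zpowers_iff.mp ha
          obtain ⟨j, rfl⟩ := Subgroup.mem_zpowers_iff.mp hb
          exact (Commute.refl y).zpow_zpow j i
        refine sup_le (Subgroup.le_centralizer_iff.mp (sup_le hAab hy'))
          (Subgroup.le_centralizer_iff.mp (sup_le (Subgroup.le_centralizer_iff.mp hy') hy2))
      exact hAmax ⟨hUA.trans le_sup_left, sup_le hAN (Subgroup.zpowers_le.mpr hy.2), hsup⟩ le_sup_left
        (Subgroup.mem_sup_right (Subgroup.mem_zpowers y))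
    have hAC : A ≤ C := hAN.trans hNC
    have h1 := relIndex_centralizer_le U ι hι N A U hNC hAC (fun a ha b hb => hNN a ha b (hAN hb)) hUA
      (Subgroup.Normal.subgroupOf inferInstance A) (fun a ha u hu => (Subgroup.mem_centralizer_iff.mp (hNC ha) u hu).symm)
    have h2 := relIndex_centralizer_le U ι hι A N A hAC hNC (fun a ha b hb => hNN a (hAN ha) b hb) hAN
      (hsubn A hUA hAN) (fun a ha b hb => (Subgroup.mem_centralizer_iff.mp (hAab ha) b hb).symm)
    rw [← Subgroup.inf_relIndex_right, hcA] at h1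
    rw [← Subgroup.inf_relIndex_right, hUinf A hUA hAC] at h2
    refine ⟨U.relIndex A, ?_⟩
    rw [← Subgroup.relIndex_mul_relIndex U A N hUA hAN, le_antisymm h1 h2, pow_two]

end

end Cfsg.Agent.BC85.BaseTwo
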