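import Mathlib
import Cfsg.Agent.BC85.BaseTwo.Basic

/-!
# Small group order lemmas for the base-two theorem
-/

set_option autoImplicit false

namespace Cfsg.Agent.BC85.BaseTwo

open scoped commutatorElement

section Module

variable {H V : Type} [Group H] [AddCommGroup V] [DistribMulAction H V] [Finite V]

theorem gl_dvd_of_module (r m : ℕ) [Fact r.Prime] [Module (ZMod r) V] [SMulCommClass H (ZMod r) V]
    (hcard : Nat.card V = r ^ m) :
    (ker H V).index ∣ ∏ i : Fin m, (r ^ m - r ^ (i : ℕ)) := by
  haveI : Fintype V := Fintype.ofFinite V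
  have hfr : Module.finrank (ZMod r) V = m := by
    have h1 := Module.card_eq_pow_finrank (K := ZMod r) (V := V)
    rw [ZMod.card, ← Nat.card_eq_fintype_card, hcard] at h1
    exact (Nat.pow_right_injective (Fact.out : r.Prime).two_le h1).symm
  let b : Module.Basis (Fin m) (ZMod r) V := Module.finBasisOfFinrankEq (ZMod r) V hfr
  let f : H →* Module.End (ZMod r) V := DistribMulAction.toModuleEnd (ZMod r) V
  let g : H →* GL (Fin m) (ZMod r) :=
    (Units.map ((LinearMap.toMatrixAlgEquiv b).toMulEquiv.toMonoidHom)).comp f.toHomUnits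
  have hker : g.ker = ker H V := by
    ext h
    rw [MonoidHom.mem_ker, mem_ker]
    constructor
    · intro he v
      have h1 : (LinearMap.toMatrixAlgEquiv b) (f h) = (LinearMap.toMatrixAlgEquiv b) 1 := by
        rw [map_one]
        exact congrArg Units.val he
      exact LinearMap.congr_fun ((LinearMap.toMatrixAlgEquiv b).injective h1) v
    · intro he
      apply Units.ext
      show (LinearMap.toMatrixAlgEquiv b) (f h) = 1
      rw [show f h = 1 from LinearMap.ext fun v => he v, map_one]
  rw [← hker, Subgroup.index_ker]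
  have h2 := Subgroup.card_subgroup_dvd_card g.range
  rwa [Matrix.card_GL_field, ZMod.card] at h2

/-- An elementary abelian group of order `r ^ m` bounds the group by `GL m r`. -/
theorem gl_dvd (r m : ℕ) [Fact r.Prime] (hr : ∀ v : V, r • v = 0) (hcard : Nat.card V = r ^ m) :
    (ker H V).index ∣ ∏ i : Fin m, (r ^ m - r ^ (i : ℕ)) :=
  letI : Module (ZMod r) V := AddCommGroup.zmodModule hr
  haveI : SMulCommClass H (ZMod r) V :=
    ⟨fun h c v => ZMod.map_smul (DistribMulAction.toAddMonoidHom V h) c v⟩
  gl_dvd_of_module r m hcard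

/-- In a completely reducible module of `r`-power order normal `r`-subgroups act trivially. -/
theorem triv_of_normal_pgroup [Finite H] {r : ℕ} [Fact r.Prime] (hcr : CR H V) {j : ℕ}
    (hcard : Nat.card V = r ^ j) (R : Subgroup H) [R.Normal] (hR : IsPGroup r R) :
    R ≤ ker H V := by
  let F : AddSubgroup V :=
    { carrier := {v | ∀ x ∈ R, x • v = v}
      zero_mem' := fun x _ => smul_zero x
      add_mem' := fun {a c} ha hc x hx => by rw [smul_add, ha x hx, hc x hx]
      neg_mem' := fun {a} ha x hx => by rw [smul_neg, ha x hx] }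
  have hF : Inv H V F := by
    intro h v hv x hx
    have h1 : h⁻¹ * x * h ∈ R := by
      simpa [mul_assoc] using Subgroup.Normal.conj_mem inferInstance x hx h⁻¹
    have h2 := hv _ h1
    rw [mul_smul, mul_smul, inv_smul_eq_iff] at h2
    exact h2
  obtain ⟨W, hW, hinf, hsup⟩ := hcr F hF
  have hW0 : W = ⊥ := by
    by_contra hne
    letI := restrict W hW
    obtain ⟨c, -, hc⟩ := (Nat.dvd_prime_pow (Fact.out : r.Prime)).mp
      (hcard ▸ AddSubgroup.card_addSubgroup_dvd_card W)
    have hdvd : r ∣ Nat.card W := by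
      rcases Nat.eq_zero_or_pos c with rfl | hc0
      · rw [pow_zero] at hc
        exact absurd (AddSubgroup.eq_bot_of_card_eq W hc) hne
      · exact hc ▸ dvd_pow_self r hc0.ne'
    have h0 : (0 : W) ∈ MulAction.fixedPoints R W := fun x => smul_zero (x : H)
    obtain ⟨w, hw, hw0⟩ := hR.exists_fixed_point_of_prime_dvd_card_of_fixed_point W hdvd h0
    have hwF : (w : V) ∈ F := fun x hx => congrArg Subtype.val (hw ⟨x, hx⟩)
    have : (w : V) ∈ F ⊓ W := ⟨hwF, w.2⟩
    rw [hinf, AddSubgroup.mem_bot] at this
    exact hw0 (Subtype.ext this).symm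
  rw [hW0, sup_bot_eq] at hsup
  intro x hx
  rw [mem_ker]
  intro v
  exact (hsup ▸ AddSubgroup.mem_top v : v ∈ F) x hx

end Module

/-- A solvable group of order dividing `r ^ j * q` without normal `r`-subgroups is small. -/
theorem tiny {S : Type*} [Group S] [Finite S] [Group.IsSolvable S] (r q j : ℕ) [hr : Fact r.Prime]
    [hq : Fact q.Prime] (hrq : r ≠ q) (hdvd : Nat.card S ∣ r ^ j * q)
    (hno : ∀ R : Subgroup S, R.Normal → IsPGroup r R → R = ⊥) :
    Nat.card S ∣ q * (q - 1) := by
  by_cases hqS : q ∣ Nat.card S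
  swap
  · have h1 : Nat.card S ∣ r ^ j :=
      (((Nat.Prime.coprime_iff_not_dvd hq.out).mpr hqS).symm).dvd_of_dvd_mul_right hdvd
    obtain ⟨i, -, hi⟩ := (Nat.dvd_prime_pow hr.out).mp h1
    have h2 := hno ⊤ inferInstance (IsPGroup.of_card (n := i) (by rw [Subgroup.card_top, hi]))
    rw [← Subgroup.card_top (G := S), h2, Subgroup.card_bot]
    exact one_dvd _
  -- the last term of the derived series
  have hntriv : Nontrivial S := by
    rw [← Finite.one_lt_card_iff_nontrivial]
    exact lt_of_lt_of_le hq.out.one_lt (Nat.le_of_dvd Nat.card_pos hqS)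
  obtain ⟨n, hn0, hn1⟩ : ∃ n, derivedSeries S n ≠ ⊥ ∧ derivedSeries S (n + 1) = ⊥ := by
    classical
    have hex : ∃ n, derivedSeries S n = ⊥ := (Group.isSolvable_def S).mp inferInstance
    have h0 : Nat.find hex ≠ 0 := by
      intro h
      have := Nat.find_spec hex
      rw [h, derivedSeries_zero] at this
      exact absurd this top_ne_bot
    refine ⟨Nat.find hex - 1, Nat.find_min hex (by omega), ?_⟩
    rw [Nat.sub_add_cancel (Nat.pos_of_ne_zero h0)]
    exact Nat.find_spec hex
  set A := derivedSeries S n with hA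
  haveI : A.Normal := derivedSeries_normal S n
  have hcomm : ∀ a ∈ A, ∀ b ∈ A, a * b = b * a := by
    intro a ha b hb
    have : ⁅a, b⁆ ∈ derivedSeries S (n + 1) := by
      rw [derivedSeries_succ]; exact Subgroup.commutator_mem_commutator ha hb
    rw [hn1, Subgroup.mem_bot, commutatorElement_eq_one_iff_mul_comm] at this
    exact this
  haveI hAc : IsMulCommutative A := ⟨⟨fun a b => Subtype.ext (hcomm a a.2 b b.2)⟩⟩
  -- its order is `q`
  have hcardA : Nat.card A = q := by
    have hrA : ¬ r ∣ Nat.card A := by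
      intro hd
      obtain ⟨a, ha⟩ := exists_prime_orderOf_dvd_card' r hd
      let R : Subgroup S :=
        { carrier := {x | x ∈ A ∧ x ^ r = 1}
          one_mem' := ⟨A.one_mem, one_pow r⟩
          mul_mem' := fun {x y} hx hy => ⟨A.mul_mem hx.1 hy.1, by
            rw [(show Commute x y from hcomm x hx.1 y hy.1).mul_pow, hx.2, hy.2, one_mul]⟩
          inv_mem' := fun {x} hx => ⟨A.inv_mem hx.1, by rw [inv_pow, hx.2, inv_one]⟩ }
      have hRn : R.Normal := ⟨fun x hx s => ⟨Subgroup.Normal.conj_mem inferInstance x hx.1 s, by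
        rw [conj_pow, hx.2, mul_one, mul_inv_cancel]⟩⟩
      have hRp : IsPGroup r R := fun x => ⟨1, Subtype.ext (by simpa using x.2.2)⟩
      have hmem : (a : S) ∈ R := ⟨a.2, by
        rw [← ha, ← Subgroup.orderOf_coe]; exact pow_orderOf_eq_one _⟩
      rw [hno R hRn hRp, Subgroup.mem_bot] at hmem
      rw [← Subgroup.orderOf_coe, hmem, orderOf_one] at ha
      exact hr.out.ne_one ha.symm
    have h1 : Nat.card A ∣ q :=
      (Nat.Coprime.pow_right j ((Nat.Prime.coprime_iff_not_dvd hr.out).mpr hrA).symm).dvd_of_dvd_mul_left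
        (dvd_trans (Subgroup.card_subgroup_dvd_card A) hdvd)
    rcases (Nat.dvd_prime hq.out).mp h1 with h | h
    · exact absurd (Subgroup.eq_bot_of_card_eq A h) hn0
    · exact h
  -- the centraliser of `A` is `A`
  set C := Subgroup.centralizer (A : Set S) with hC
  haveI : C.Normal := inferInstance
  have hAC : A ≤ C := fun a ha => Subgroup.mem_centralizer_iff.mpr fun b hb => hcomm b hb a ha
  have hCA : C = A := by
    haveI : (A.subgroupOf C).Normal := inferInstance
    have hquot : IsPGroup r (C ⧸ A.subgroupOf C) := by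
      have h1 : Nat.card C ∣ r ^ j * q := dvd_trans (Subgroup.card_subgroup_dvd_card C) hdvd
      rw [Subgroup.card_eq_card_quotient_mul_card_subgroup (A.subgroupOf C),
        Nat.card_congr (Subgroup.subgroupOfEquivOfLe hAC).toEquiv, hcardA] at h1
      obtain ⟨i, -, hi⟩ := (Nat.dvd_prime_pow hr.out).mp (Nat.dvd_of_mul_dvd_mul_right hq.out.pos h1)
      exact IsPGroup.of_card hi
    haveI : Group.IsNilpotent (C ⧸ A.subgroupOf C) := hquot.isNilpotent
    haveI hnil : Group.IsNilpotent C := by
      refine Subgroup.isNilpotent_of_ker_le_center (QuotientGroup.mk' (A.subgroupOf C)) ?_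
      rw [QuotientGroup.ker_mk']
      intro a ha
      rw [Subgroup.mem_center_iff]
      intro c
      exact Subtype.ext ((Subgroup.mem_centralizer_iff.mp c.2 _ (Subgroup.mem_subgroupOf.mp ha)).symm)
    obtain ⟨P⟩ := (inferInstance : Nonempty (Sylow r C))
    haveI hPn : (P : Subgroup C).Normal :=
      P.normal_of_normalizerCondition (Group.normalizerCondition_of_isNilpotent (G := C))
    haveI : (P : Subgroup C).Characteristic := P.characteristic_of_normal hPn
    have hP0 := hno ((P : Subgroup C).map C.subtype) inferInstance (P.2.map C.subtype)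
    rw [Subgroup.map_eq_bot_iff_of_injective _ C.subtype_injective] at hP0
    have hrC : ¬ r ∣ Nat.card C := by
      have h2 := P.not_dvd_index
      rwa [hP0, Subgroup.index_bot] at h2
    have h1 : Nat.card C ∣ q :=
      (Nat.Coprime.pow_right j ((Nat.Prime.coprime_iff_not_dvd hr.out).mpr hrC).symm).dvd_of_dvd_mul_left
        (dvd_trans (Subgroup.card_subgroup_dvd_card C) hdvd)
    exact (Subgroup.eq_of_le_of_card_ge hAC (by rw [hcardA]; exact Nat.le_of_dvd hq.out.pos h1)).symm
  -- the quotient acts faithfully on the cyclic group `A`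
  let φ : S →* MulAut A := MulAut.conjNormal
  have hker : φ.ker = A := by
    refine Eq.trans ?_ hCA
    ext s
    rw [MonoidHom.mem_ker, hC, Subgroup.mem_centralizer_iff]
    constructor
    · intro he b hb
      have h1 : s * b * s⁻¹ = b := by
        have := congrArg Subtype.val (DFunLike.congr_fun he ⟨b, hb⟩)
        rwa [MulAut.conjNormal_apply] at this
      exact (mul_inv_eq_iff_eq_mul.mp h1).symm
    · intro he
      apply MulEquiv.ext
      intro b
      apply Subtype.ext
      rw [MulAut.conjNormal_apply, MulAut.one_apply, ← he b b.2, mul_inv_cancel_right]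
  haveI : IsCyclic A := isCyclic_of_prime_card hcardA
  have h1 : A.index ∣ q - 1 := by
    rw [← hker, Subgroup.index_ker]
    have h2 := Subgroup.card_subgroup_dvd_card φ.range
    rwa [IsCyclic.card_mulAut, hcardA, Nat.totient_prime hq.out] at h2
  rw [← A.card_mul_index, hcardA]
  exact Nat.mul_dvd_mul_left q h1

end Cfsg.Agent.BC85.BaseTwo
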