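import Mathlib
import Cfsg.Agent.BC85.BaseTwo.Tools
import Cfsg.Agent.S0547
import Cfsg.Agent.S0548

/-!
# A group of odd order has a regular orbit on subsets (Gluck)
-/

set_option autoImplicit false

namespace Cfsg.Agent.BC85.BaseTwo

open MulAction
open scoped Pointwise

/-- The colouring `c` is only preserved by elements fixing every point. -/
def Dist (G I : Type) [Group G] [MulAction G I] (c : I → Bool) : Prop :=
  ∀ g : G, (∀ i, c (g • i) = c i) → ∀ i : I, g • i = i

/-- The fixed points are at most a third of the points. -/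
theorem card_fixedBy_le {G I : Type} [Group G] [Finite G] [MulAction G I] [FaithfulSMul G I]
    (hodd : Odd (Nat.card G)) (M : Subgroup G) [M.Normal]
    (htrans : IsPretransitive M I) (hreg : ∀ ω : I, stabilizer M ω = ⊥)
    (hcent : ∀ ω : I, stabilizer G ω ⊓ Subgroup.centralizer (M : Set G) = ⊥)
    {g : G} (hg : g ≠ 1) : 3 * Nat.card (fixedBy I g) ≤ Nat.card M := by
  rcases isEmpty_or_nonempty (fixedBy I g) with he | ⟨⟨x, hx⟩⟩
  · rw [Nat.card_of_isEmpty]; omega
  rw [mem_fixedBy] at hx
  let K : Subgroup M := (Subgroup.centralizer ({g} : Set G)).subgroupOf M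
  haveI : FaithfulSMul M I := ⟨fun {m m'} h => Subtype.ext (eq_of_smul_eq_smul (α := I) h)⟩
  have hmem : ∀ m : M, m ∈ K ↔ g • m • x = m • x := by
    intro m
    rw [Subgroup.mem_subgroupOf, Subgroup.mem_centralizer_singleton_iff]
    constructor
    · intro he
      rw [Subgroup.smul_def, ← mul_smul, ← he, mul_smul, hx]
    · intro he
      have hconj : g * (m : G) * g⁻¹ ∈ M := Subgroup.Normal.conj_mem inferInstance _ m.2 g
      have h2 : (⟨g * (m : G) * g⁻¹, hconj⟩ : M) • x = m • x := by
        rw [Subgroup.smul_def]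
        show (g * (m : G) * g⁻¹) • x = _
        rw [mul_smul, mul_smul, inv_smul_eq_iff.mpr hx.symm]
        exact he
      have h3 : m⁻¹ * ⟨g * (m : G) * g⁻¹, hconj⟩ ∈ stabilizer M x := by
        rw [mem_stabilizer_iff, mul_smul, h2, inv_smul_smul]
      rw [hreg, Subgroup.mem_bot, inv_mul_eq_one] at h3
      have h4 : (m : G) = g * (m : G) * g⁻¹ := congrArg Subtype.val h3
      exact (mul_inv_eq_iff_eq_mul.mp h4.symm).symm
  have hinj : Function.Injective (fun m : K => (⟨(m : M) • x, (hmem _).mp m.2⟩ : fixedBy I g)) := by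
    intro a b he
    have h1 : (b : M)⁻¹ * (a : M) ∈ stabilizer M x := by
      rw [mem_stabilizer_iff, mul_smul, show (a : M) • x = (b : M) • x from congrArg Subtype.val he,
        inv_smul_smul]
    rw [hreg, Subgroup.mem_bot, inv_mul_eq_one] at h1
    exact Subtype.ext h1.symm
  have hsurj : Function.Surjective (fun m : K => (⟨(m : M) • x, (hmem _).mp m.2⟩ : fixedBy I g)) := by
    rintro ⟨y, hy⟩
    haveI := htrans
    obtain ⟨m, rfl⟩ := exists_smul_eq M x y
    exact ⟨⟨m, (hmem m).mpr hy⟩, rfl⟩
  rw [← Nat.card_congr (Equiv.ofBijective _ ⟨hinj, hsurj⟩), ← K.card_mul_index, mul_comm]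
  refine Nat.mul_le_mul_left _ ?_
  have hne : K.index ≠ 1 := by
    rw [ne_eq, Subgroup.index_eq_one]
    intro htop
    refine hg ?_
    have h1 : g ∈ stabilizer G x ⊓ Subgroup.centralizer (M : Set G) := by
      refine ⟨hx, Subgroup.mem_centralizer_iff.mpr fun m hm => ?_⟩
      have : (⟨m, hm⟩ : M) ∈ K := htop ▸ Subgroup.mem_top _
      exact (Subgroup.mem_centralizer_singleton_iff.mp (Subgroup.mem_subgroupOf.mp this))
    rwa [hcent, Subgroup.mem_bot] at h1
  have hoddK : Odd K.index := by
    refine Odd.of_dvd_nat hodd (dvd_trans K.index_dvd_card (Subgroup.card_subgroup_dvd_card M))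
  obtain ⟨k, hk⟩ := hoddK
  omega

/-- Colourings preserved by a permutation. -/
theorem card_invariant_le {G I : Type} [Group G] [Finite G] [MulAction G I] [Finite I]
    (hodd : Odd (Nat.card G)) (g : G) :
    ∃ c : ℕ, 3 * c ≤ Nat.card I + 2 * Nat.card (fixedBy I g) ∧
      Nat.card {f : I → Bool // ∀ i, f (g • i) = f i} ≤ 2 ^ c := by
  classical
  let Q := orbitRel.Quotient (Subgroup.zpowers g) I
  haveI : Fintype Q := Fintype.ofFinite Q
  refine ⟨Nat.card Q, ?_, ?_⟩
  · have hsum : Nat.card I = ∑ q : Q, Nat.card q.orbit := by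
      rw [← Nat.card_sigma]
      exact Nat.card_congr (selfEquivSigmaOrbits' (Subgroup.zpowers g) I)
    let S : Finset Q := Finset.univ.filter fun q => Nat.card q.orbit = 1
    have hpt : ∀ q : Q, 3 ≤ Nat.card q.orbit + (if q ∈ S then 2 else 0) := by
      intro q
      have hpos : 0 < Nat.card q.orbit := by
        haveI : Nonempty q.orbit := (orbitRel.Quotient.nonempty_orbit q).to_subtype
        exact Nat.card_pos
      have hoddq : Odd (Nat.card q.orbit) := by
        induction q using Quotient.inductionOn' with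
        | h a =>
          rw [orbitRel.Quotient.orbit_mk, Nat.card_coe_set_eq, ← index_stabilizer]
          exact Odd.of_dvd_nat hodd
            (dvd_trans (Subgroup.index_dvd_card _) (Subgroup.card_subgroup_dvd_card _))
      obtain ⟨k, hk⟩ := hoddq
      by_cases hq : q ∈ S
      · rw [if_pos hq]; omega
      · have : Nat.card q.orbit ≠ 1 := by simpa [S] using hq
        rw [if_neg hq]; omega
    have hS : S.card ≤ Nat.card (fixedBy I g) := by
      have hout : ∀ q : {q : Q // q ∈ S}, Quotient.out q.1 ∈ fixedBy I g := by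
        rintro ⟨q, hq⟩
        have h1 : Nat.card q.orbit = 1 := by simpa [S] using hq
        haveI : Subsingleton q.orbit := (Nat.card_eq_one_iff_unique.mp h1).1
        have hm : q.out ∈ q.orbit := by
          rw [orbitRel.Quotient.mem_orbit]; exact Quotient.out_eq' q
        have hm2 : g • q.out ∈ q.orbit := by
          rw [orbitRel.Quotient.mem_orbit]
          exact (orbitRel.Quotient.quotient_smul_eq
            (g := (⟨g, Subgroup.mem_zpowers g⟩ : Subgroup.zpowers g))).trans (Quotient.out_eq' q)
        exact congrArg Subtype.val (Subsingleton.elim (⟨_, hm2⟩ : q.orbit) ⟨_, hm⟩)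
      have := Nat.card_le_card_of_injective (fun q => (⟨Quotient.out q.1, hout q⟩ : fixedBy I g))
        (fun a b he => Subtype.ext (Quotient.out_injective (congrArg Subtype.val he)))
      rwa [Nat.card_eq_fintype_card, Fintype.card_coe] at this
    have h3 := Finset.sum_le_sum (s := Finset.univ) fun q _ => hpt q
    rw [Finset.sum_add_distrib, Finset.sum_const, Finset.card_univ, ← Nat.card_eq_fintype_card,
      ← hsum, Finset.sum_ite_mem, Finset.univ_inter, Finset.sum_const, smul_eq_mul, smul_eq_mul] at h3
    omega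
  · have h1 : Nat.card (Q → Bool) = 2 ^ Nat.card Q := by
      rw [Nat.card_fun]
      simp
    rw [← h1]
    refine Nat.card_le_card_of_injective (fun f => fun q : Q => f.1 (Quotient.out q)) ?_
    intro f f' he
    apply Subtype.ext
    funext i
    have hinv : ∀ (e : I → Bool), (∀ j, e (g • j) = e j) →
        e i = e (Quotient.out (Quotient.mk'' i : Q)) := by
      intro e he
      have hrel := Quotient.mk_out (s := orbitRel (Subgroup.zpowers g) I) i
      obtain ⟨⟨x, hx⟩, hxi⟩ := hrel
      obtain ⟨k, rfl⟩ := Subgroup.mem_zpowers_iff.mp hx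
      have hk : ∀ (k : ℤ) (j : I), e (g ^ k • j) = e j := by
        intro k
        induction k using Int.induction_on with
        | zero => intro j; rw [zpow_zero, one_smul]
        | succ m ih => intro j; rw [zpow_add_one, mul_smul, ih, he]
        | pred m ih =>
          intro j
          rw [zpow_sub_one, mul_smul, ih]
          have := he (g⁻¹ • j)
          rwa [smul_inv_smul, eq_comm] at this
      show e i = e (Quotient.out (Quotient.mk'' i : Q))
      rw [show Quotient.out (Quotient.mk'' i : Q) = g ^ k • i from hxi.symm, hk]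
    rw [hinv f.1 f.2, hinv f'.1 f'.2]
    exact congrFun he _

theorem sq_bound {k : ℕ} (hk : 4 ≤ k) : (3 * k - 4) ^ 2 ≤ 4 * 2 ^ k := by
  induction k, hk using Nat.le_induction with
  | base => norm_num
  | succ k hk ih =>
    obtain ⟨t, rfl⟩ := Nat.exists_eq_add_of_le hk
    rcases t with _ | _ | t
    · norm_num
    · norm_num
    · have e1 : 3 * (4 + (t + 1 + 1)) - 4 = 3 * t + 14 := by omega
      have e2 : 3 * (4 + (t + 1 + 1) + 1) - 4 = 3 * t + 17 := by omega
      rw [e1] at ih
      rw [e2, pow_succ 2]
      nlinarith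

theorem cube_bound {k : ℕ} (hk : 21 ≤ k) : (9 * k) ^ 3 ≤ 64 * 2 ^ k := by
  induction k, hk using Nat.le_induction with
  | base => norm_num
  | succ k hk ih =>
    rw [pow_succ 2]
    nlinarith [mul_le_mul hk hk (Nat.zero_le _) (Nat.zero_le _)]

section Primitive

variable {G I : Type} [Group G] [Finite G] [MulAction G I] [Finite I] [FaithfulSMul G I]

open scoped IsMulCommutative in
/-- The primitive case. -/
theorem dist_of_primitive (FT : SolvOdd) (hlin : Lin (Nat.card I)) (hodd : Odd (Nat.card G))
    [hprim : IsPreprimitive G I] (hI : 2 ≤ Nat.card I) : ∃ c : I → Bool, Dist G I c := by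
  classical
  haveI : Fintype I := Fintype.ofFinite I
  haveI : Fintype G := Fintype.ofFinite G
  haveI : Group.IsSolvable G := FT G hodd
  haveI : Nonempty I := (Nat.card_pos_iff.mp (by omega)).1
  obtain ⟨M, ⟨hMn, hM0⟩, hmin⟩ : ∃ M, (M.Normal ∧ M ≠ ⊥) ∧
      ∀ K : Subgroup G, K.Normal → K ≤ M → K = ⊥ ∨ K = M := by
    have hne : (⊤ : Subgroup G) ≠ ⊥ := by
      intro h
      obtain ⟨x, y, hxy⟩ : ∃ x y : I, x ≠ y := by
        by_contra hno
        push Not at hno
        haveI : Subsingleton I := ⟨hno⟩
        rw [Nat.card_of_subsingleton (Classical.arbitrary I)] at hI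
        omega
      obtain ⟨g, hg⟩ := exists_smul_eq G x y
      have : g = 1 := Subgroup.mem_bot.mp (h ▸ Subgroup.mem_top g)
      rw [this, one_smul] at hg
      exact hxy hg
    obtain ⟨M, hM, hmin⟩ := Set.Finite.exists_minimal
      (s := {M : Subgroup G | M.Normal ∧ M ≠ ⊥}) (Set.toFinite _) ⟨⊤, inferInstance, hne⟩
    refine ⟨M, hM, fun K hK hKM => ?_⟩
    by_cases h : K = ⊥
    · exact Or.inl h
    · exact Or.inr (le_antisymm hKM (hmin ⟨hK, h⟩ hKM))
  haveI := hMn
  obtain ⟨htrans, hreg, p, d, hp, hd, hIcard, hMcard⟩ := S0547.result hprim M hM0 hmin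
  have h548 := fun ω => S0548.result hprim M hM0 hmin ω
  obtain ⟨q, hq, -, hMc, hMexp, d', hd', hMq⟩ :=
    Solvable.exists_prime_of_minimal_normal M hM0 hmin
  haveI := hMc
  set n := Nat.card I with hn
  set ω := Classical.arbitrary I
  set S0 := stabilizer G ω with hS0
  have hGcard : Nat.card G = n * Nat.card S0 := by
    rw [← Subgroup.card_mul_index S0, mul_comm, index_stabilizer_of_transitive]
  haveI : Fact p.Prime := ⟨hp⟩
  have hnodd : Odd n := by
    rw [hIcard, ← hMcard]
    exact Odd.of_dvd_nat hodd (Subgroup.card_subgroup_dvd_card M)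
  have hp2 : p ≠ 2 := by
    rintro rfl
    rw [hIcard, Nat.odd_pow_iff hd.ne'] at hnodd
    exact absurd hnodd (by decide)
  have hS0odd : Odd (Nat.card S0) := Odd.of_dvd_nat hodd (Subgroup.card_subgroup_dvd_card S0)
  -- the stabiliser acts on the normal subgroup
  let act : DistribMulAction S0 (Additive M) :=
    { smul := fun s m => Additive.ofMul (MulAut.conjNormal (s : G) (Additive.toMul m))
      one_smul := fun m => by
        show Additive.ofMul (MulAut.conjNormal ((1 : S0) : G) _) = m
        rw [OneMemClass.coe_one, map_one]; rfl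
      mul_smul := fun a b m => by
        show Additive.ofMul (MulAut.conjNormal ((a * b : S0) : G) _) = _
        rw [Subgroup.coe_mul, map_mul]; rfl
      smul_zero := fun s => by
        show Additive.ofMul (MulAut.conjNormal (s : G) 1) = 0
        rw [map_one]; rfl
      smul_add := fun s a b => by
        show Additive.ofMul (MulAut.conjNormal (s : G) (Additive.toMul a * Additive.toMul b)) = _
        rw [map_mul]; rfl }
  letI := act
  have hker : ker S0 (Additive M) = ⊥ := by
    rw [eq_bot_iff]
    intro s hs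
    rw [mem_ker] at hs
    have h1 : (s : G) ∈ stabilizer G ω ⊓ Subgroup.centralizer (M : Set G) := by
      refine ⟨s.2, Subgroup.mem_centralizer_iff.mpr fun m hm => ?_⟩
      have h2 : MulAut.conjNormal (s : G) ⟨m, hm⟩ = (⟨m, hm⟩ : M) := hs (Additive.ofMul ⟨m, hm⟩)
      have h3 := congrArg Subtype.val h2
      rw [MulAut.conjNormal_apply] at h3
      exact (mul_inv_eq_iff_eq_mul.mp h3).symm
    rw [(h548 ω).2.1, Subgroup.mem_bot] at h1
    exact Subgroup.mem_bot.mpr (Subtype.ext h1)
  have hirr : Irr S0 (Additive M) := by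
    refine ⟨?_, fun U hU => ?_⟩
    · obtain ⟨m, hm, hm1⟩ := (Subgroup.bot_or_exists_ne_one M).resolve_left hM0
      exact ⟨Additive.ofMul ⟨m, hm⟩, fun h => hm1 (congrArg Subtype.val h)⟩
    · let U' : Subgroup M := U.toSubgroup'
      have hn' : stabilizer G ω ≤ Subgroup.normalizer ((U'.map M.subtype : Subgroup G) : Set G) := by
        have key : ∀ s : S0, ∀ x ∈ U'.map M.subtype, (s : G) * x * (s : G)⁻¹ ∈ U'.map M.subtype := by
          intro s x hx
          obtain ⟨m, hm, rfl⟩ := Subgroup.mem_map.mp hx
          exact Subgroup.mem_map.mpr ⟨MulAut.conjNormal (s : G) m, hU s (Additive.ofMul m) hm,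
            by simp⟩
        intro s hs
        rw [Subgroup.mem_normalizer_iff]
        intro x
        refine ⟨fun hx => key ⟨s, hs⟩ x hx, fun hx => ?_⟩
        have := key ⟨s⁻¹, inv_mem hs⟩ _ hx
        simpa [mul_assoc] using this
      rcases (h548 ω).2.2 (U'.map M.subtype) (Subgroup.map_subtype_le U') hn' with h | h
      · left
        rw [Subgroup.map_eq_bot_iff_of_injective _ M.subtype_injective] at h
        rw [eq_bot_iff]
        intro v hv
        have : Additive.toMul v ∈ U' := hv
        rw [h, Subgroup.mem_bot] at this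
        exact AddSubgroup.mem_bot.mpr (Additive.toMul.injective this)
      · right
        rw [eq_top_iff]
        intro v _
        have h1 : ((Additive.toMul v : M) : G) ∈ U'.map M.subtype := by
          rw [h]; exact (Additive.toMul v).2
        obtain ⟨m, hm, he⟩ := Subgroup.mem_map.mp h1
        rw [show (v : Additive M) = Additive.ofMul m from congrArg Additive.ofMul (Subtype.ext he).symm]
        exact hm
  have hVcard : Nat.card (Additive M) = p ^ d := hMcard
  have hexp : ∀ v : Additive M, p • v = 0 := by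
    have hqp : q = p := ((Nat.prime_dvd_prime_iff_eq hq hp).mp
      (hq.dvd_of_dvd_pow (n := d) (by rw [← hMcard, hMq]; exact dvd_pow_self q hd'.ne')))
    intro v
    apply Additive.toMul.injective
    rw [toMul_nsmul, ← hqp]
    exact Subtype.ext (hMexp _ (Additive.toMul v).2)
  have hgl : Nat.card S0 ∣ ∏ i : Fin d, (p ^ d - p ^ (i : ℕ)) := by
    have h1 := gl_dvd (H := S0) (V := Additive M) p d hexp hVcard
    rwa [hker, Subgroup.index_bot] at h1
  -- the union bound
  have hfix : ∀ g : G, g ≠ 1 → 3 * Nat.card (fixedBy I g) ≤ n := fun g hg => by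
    have := card_fixedBy_le hodd M htrans hreg (fun ω => (h548 ω).2.1) hg
    rwa [hMcard, ← hIcard] at this
  suffices key : ∃ c : ℕ, (∀ g : G, g ≠ 1 → Nat.card {f : I → Bool // ∀ i, f (g • i) = f i} ≤ 2 ^ c) ∧
      (Nat.card G - 1) * 2 ^ c < 2 * 2 ^ n by
    obtain ⟨c, hc, hlt⟩ := key
    by_contra hno
    push Not at hno
    have hbad : ∀ f : I → Bool, ∃ g : G, g ≠ 1 ∧ ∀ i, f (g • i) = f i := by
      intro f
      have := hno f
      simp only [Dist, not_forall] at this
      obtain ⟨g, hg, i, hi⟩ := this
      exact ⟨g, fun h => hi (by rw [h, one_smul]), hg⟩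
    let B : G → Finset (I → Bool) := fun g => Finset.univ.filter fun f => ∀ i, f (g • i) = f i
    have hB : ∀ f : I → Bool, 2 ≤ ((Finset.univ.erase (1 : G)).filter fun g => f ∈ B g).card := by
      intro f
      obtain ⟨g, hg, hgf⟩ := hbad f
      have hsub : ({g, g⁻¹} : Finset G) ⊆ (Finset.univ.erase (1 : G)).filter fun g => f ∈ B g := by
        intro x hx
        simp only [Finset.mem_insert, Finset.mem_singleton] at hx
        rcases hx with rfl | rfl
        · simp [B, hg, hgf]
        · simp only [B, Finset.mem_filter, Finset.mem_erase, Finset.mem_univ, and_true, true_and,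
            ne_eq, inv_eq_one, hg, not_false_eq_true]
          intro i
          have := hgf (g⁻¹ • i)
          rwa [smul_inv_smul, eq_comm] at this
      have hne : g ≠ g⁻¹ := by
        intro he
        apply hg
        have h2 : g ^ 2 = 1 := by rw [pow_two]; nth_rewrite 2 [he]; exact mul_inv_cancel g
        have h3 : orderOf g ∣ 2 := orderOf_dvd_of_pow_eq_one h2
        rcases (Nat.dvd_prime Nat.prime_two).mp h3 with h | h
        · exact orderOf_eq_one_iff.mp h
        · exact absurd (Odd.of_dvd_nat hodd (h ▸ orderOf_dvd_natCard g)) (by decide)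
      calc 2 = ({g, g⁻¹} : Finset G).card := (Finset.card_pair hne).symm
        _ ≤ _ := Finset.card_le_card hsub
    have h1 : 2 * 2 ^ n ≤ ∑ g ∈ Finset.univ.erase (1 : G), (B g).card := by
      have h2 := Finset.sum_le_sum (s := (Finset.univ : Finset (I → Bool))) fun f _ => hB f
      rw [Finset.sum_const, Finset.card_univ, Fintype.card_fun, Fintype.card_bool,
        ← Nat.card_eq_fintype_card, smul_eq_mul, mul_comm] at h2
      refine h2.trans (le_of_eq ?_)
      simp only [Finset.card_filter]
      rw [Finset.sum_comm]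
      refine Finset.sum_congr rfl fun g _ => ?_
      rw [Finset.sum_boole, Nat.cast_id]
      congr 1
      ext f
      simp [B]
    have h2 : ∑ g ∈ Finset.univ.erase (1 : G), (B g).card ≤ (Nat.card G - 1) * 2 ^ c := by
      have h3 : ∀ g ∈ Finset.univ.erase (1 : G), (B g).card ≤ 2 ^ c := by
        intro g hg
        have := hc g (Finset.ne_of_mem_erase hg)
        rwa [Nat.card_eq_fintype_card, Fintype.card_subtype] at this
      have h4 := Finset.sum_le_sum h3
      rwa [Finset.sum_const, smul_eq_mul, Finset.card_erase_of_mem (Finset.mem_univ _),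
        Finset.card_univ, ← Nat.card_eq_fintype_card] at h4
    omega
  -- numerical part
  have hc5 : ∀ g : G, g ≠ 1 → Nat.card {f : I → Bool // ∀ i, f (g • i) = f i} ≤ 2 ^ (5 * n / 9) := by
    intro g hg
    obtain ⟨c, hc, hle⟩ := card_invariant_le (I := I) hodd g
    have := hfix g hg
    exact hle.trans (Nat.pow_le_pow_right (by norm_num) (by omega))
  have hG0 : 0 < Nat.card G := Nat.card_pos
  rcases Nat.eq_or_lt_of_le hd with hd1 | hd1
  · -- prime degree
    have hnp : n = p := by rw [hIcard, ← hd1]; exact pow_one p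
    have hS : 2 * Nat.card S0 ≤ p - 1 := by
      have h1 := hgl
      rw [← hd1] at h1
      simp only [Finset.prod_const, Finset.card_univ, Fintype.card_fin, pow_one, Nat.succ_eq_add_one,
        zero_add, Fin.val_eq_zero, pow_zero] at h1
      obtain ⟨k, hk⟩ := h1
      have h2 : Even (p - 1) := by
        rcases hp.odd_of_ne_two hp2 with ⟨j, hj⟩
        exact ⟨j, by omega⟩
      rw [hk] at h2
      rcases Nat.even_mul.mp h2 with h3 | h3
      · exact absurd hS0odd (Nat.not_odd_iff_even.mpr h3)
      · have hk0 : k ≠ 0 := by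
          rintro rfl
          have := hp.two_le
          simp at hk
          omega
        obtain ⟨j, rfl⟩ := h3
        rw [hk, mul_comm]
        exact Nat.mul_le_mul_left _ (by omega)
    refine ⟨(n + 2) / 3, fun g hg => ?_, ?_⟩
    · obtain ⟨c, hc, hle⟩ := card_invariant_le (I := I) hodd g
      refine hle.trans (Nat.pow_le_pow_right (by norm_num) ?_)
      have h3 := hfix g hg
      have hfix1 : Nat.card (fixedBy I g) ≤ 1 := by
        -- the centraliser in a group of prime order is trivial
        by_contra hgt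
        push Not at hgt
        rcases isEmpty_or_nonempty (fixedBy I g) with he | ⟨⟨x, hx⟩⟩
        · rw [Nat.card_of_isEmpty] at hgt; omega
        let K : Subgroup M := (Subgroup.centralizer ({g} : Set G)).subgroupOf M
        haveI := htrans
        haveI : Fact (Nat.card M).Prime := ⟨by rw [hMcard, ← hd1]; simpa using hp⟩
        rcases Subgroup.eq_bot_or_eq_top_of_prime_card K with hK | hK
        · have hall : ∀ y : fixedBy I g, y.1 = x := by
            rintro ⟨y, hy⟩
            obtain ⟨m, rfl⟩ := exists_smul_eq M x y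
            have hmK : m ∈ K := by
              rw [Subgroup.mem_subgroupOf, Subgroup.mem_centralizer_singleton_iff]
              have hconj : g * (m : G) * g⁻¹ ∈ M := Subgroup.Normal.conj_mem inferInstance _ m.2 g
              have h2 : (⟨g * (m : G) * g⁻¹, hconj⟩ : M) • x = m • x := by
                rw [Subgroup.smul_def]
                show (g * (m : G) * g⁻¹) • x = _
                rw [mul_smul, mul_smul, inv_smul_eq_iff.mpr (mem_fixedBy.mp hx).symm]
                exact mem_fixedBy.mp hy
              have h3 : m⁻¹ * ⟨g * (m : G) * g⁻¹, hconj⟩ ∈ stabilizer M x := by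
                rw [mem_stabilizer_iff, mul_smul, h2, inv_smul_smul]
              rw [hreg, Subgroup.mem_bot, inv_mul_eq_one] at h3
              exact (mul_inv_eq_iff_eq_mul.mp (congrArg Subtype.val h3).symm).symm
            rw [hK, Subgroup.mem_bot] at hmK
            show m • x = x
            rw [hmK, one_smul]
          haveI : Subsingleton (fixedBy I g) := ⟨fun a b => Subtype.ext ((hall a).trans (hall b).symm)⟩
          rw [Nat.card_of_subsingleton (⟨x, hx⟩ : fixedBy I g)] at hgt
          omega
        · refine hg ?_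
          have h1 : g ∈ stabilizer G x ⊓ Subgroup.centralizer (M : Set G) := by
            refine ⟨hx, Subgroup.mem_centralizer_iff.mpr fun m hm => ?_⟩
            have : (⟨m, hm⟩ : M) ∈ K := hK ▸ Subgroup.mem_top _
            exact Subgroup.mem_centralizer_singleton_iff.mp (Subgroup.mem_subgroupOf.mp this)
          rwa [(h548 x).2.1, Subgroup.mem_bot] at h1
      omega
    · have hp3 : 3 ≤ p := by have := hp.two_le; omega
      set k := n + 2 - (n + 2) / 3 with hk
      have hk4 : 4 ≤ k := by omega
      have h1 : (2 * n) ^ 2 ≤ (3 * k - 4) ^ 2 := Nat.pow_le_pow_left (by omega) 2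
      have h2 := sq_bound hk4
      have h3 : 2 ^ k * 2 ^ ((n + 2) / 3) = 4 * 2 ^ n := by
        rw [← pow_add, hk, Nat.sub_add_cancel (by omega), pow_add]; ring
      have h4 : 2 * Nat.card G ≤ n * n := by
        have h5 := Nat.mul_le_mul_left n hS
        rw [hGcard]
        have h6 : n * (p - 1) ≤ n * n := Nat.mul_le_mul_left n (by omega)
        nlinarith
      have h5 : n * n ≤ 2 ^ k := by nlinarith
      have h6 : 2 * ((Nat.card G - 1) * 2 ^ ((n + 2) / 3)) + 2 * 2 ^ ((n + 2) / 3) ≤ 4 * 2 ^ n := by
        rw [← h3]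
        have h7 : 2 * (Nat.card G - 1) + 2 ≤ 2 ^ k := by omega
        calc 2 * ((Nat.card G - 1) * 2 ^ ((n + 2) / 3)) + 2 * 2 ^ ((n + 2) / 3)
            = (2 * (Nat.card G - 1) + 2) * 2 ^ ((n + 2) / 3) := by ring
          _ ≤ 2 ^ k * 2 ^ ((n + 2) / 3) := Nat.mul_le_mul_right _ h7
      have : 0 < 2 ^ ((n + 2) / 3) := by positivity
      omega
  · -- proper prime power degree
    refine ⟨5 * n / 9, hc5, ?_⟩
    have hsol : Group.IsSolvable S0 := inferInstance
    by_cases h45 : 45 ≤ n
    · obtain ⟨w, hw⟩ := hlin (Additive M) S0 (by rw [hVcard, ← hIcard]) hS0odd (irr_cr hirr)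
      have hS : Nat.card S0 ≤ n ^ 2 := by
        have h1 := index_ker_le hw
        rwa [hker, Subgroup.index_bot, hVcard, ← hIcard] at h1
      set k := n + 1 - 5 * n / 9 with hk
      have hk21 : 21 ≤ k := by omega
      have h1 : (4 * n) ^ 3 ≤ (9 * k) ^ 3 := Nat.pow_le_pow_left (by omega) 3
      have h2 := cube_bound hk21
      have h3 : 2 ^ k * 2 ^ (5 * n / 9) = 2 * 2 ^ n := by
        rw [← pow_add, hk, Nat.sub_add_cancel (by omega), pow_succ]; ring
      have h4 : Nat.card G ≤ n ^ 3 := by
        rw [hGcard, pow_succ' n 2]; exact Nat.mul_le_mul_left n hS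
      have h5 : Nat.card G ≤ 2 ^ k := by nlinarith
      calc (Nat.card G - 1) * 2 ^ (5 * n / 9) < 2 ^ k * 2 ^ (5 * n / 9) :=
            Nat.mul_lt_mul_of_pos_right (by omega) (by positivity)
        _ = _ := h3
    · -- the degrees 9, 25 and 27
      have hp3 : 3 ≤ p := by have := hp.two_le; omega
      have hdp : p < 7 ∧ d < 4 := by
        constructor
        · by_contra h
          have : 7 ^ 2 ≤ p ^ d :=
            le_trans (Nat.pow_le_pow_left (by omega) 2) (Nat.pow_le_pow_right hp.pos hd1)
          omega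
        · by_contra h
          have : 3 ^ 4 ≤ p ^ d :=
            le_trans (Nat.pow_le_pow_left hp3 4) (Nat.pow_le_pow_right hp.pos (by omega))
          omega
      obtain ⟨hp7, hd4⟩ := hdp
      have hd2 : d = 2 ∨ d = 3 := by omega
      have hp5 : p = 3 ∨ p = 5 := by
        rcases (show p = 3 ∨ p = 4 ∨ p = 5 ∨ p = 6 by omega) with h | h | h | h
        · exact Or.inl h
        · exact absurd (h ▸ hp) (by decide)
        · exact Or.inr h
        · exact absurd (h ▸ hp) (by decide)
      have hodd_part : ∀ a b : ℕ, Nat.card S0 ∣ 2 ^ a * b → Nat.card S0 ∣ b := fun a b h =>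
        (Nat.Coprime.pow_right a (Nat.coprime_two_right.mpr hS0odd)).dvd_of_dvd_mul_left h
      rcases hp5 with rfl | rfl <;> rcases hd2 with rfl | rfl
      · have hn9 : n = 9 := by rw [hIcard]; norm_num
        have h1 : Nat.card S0 ∣ 3 := hodd_part 4 3 (by simpa [Fin.prod_univ_two] using hgl)
        have h2 := Nat.le_of_dvd (by norm_num) h1
        have h3 : Nat.card G - 1 ≤ 26 := by rw [hGcard, hn9]; omega
        rw [hn9]
        calc (Nat.card G - 1) * 2 ^ (5 * 9 / 9) ≤ 26 * 2 ^ (5 * 9 / 9) := Nat.mul_le_mul_right _ h3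
          _ < _ := by norm_num
      · have hn27 : n = 27 := by rw [hIcard]; norm_num
        have h1 : Nat.card S0 ∣ 3 ^ 3 * 13 := hodd_part 5 _ (by simpa [Fin.prod_univ_three] using hgl)
        haveI : Fact (Nat.Prime 13) := ⟨by norm_num⟩
        have h2 := tiny 3 13 3 (by norm_num) h1 (fun R hR hRp => by
          have := triv_of_normal_pgroup (irr_cr hirr) hVcard R hRp
          rwa [hker, le_bot_iff] at this)
        have h3 := Nat.le_of_dvd (by norm_num) h2
        have h4 : Nat.card G - 1 ≤ 27 * 156 := by rw [hGcard, hn27]; omega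
        rw [hn27]
        calc (Nat.card G - 1) * 2 ^ (5 * 27 / 9) ≤ (27 * 156) * 2 ^ (5 * 27 / 9) :=
              Nat.mul_le_mul_right _ h4
          _ < _ := by norm_num
      · have hn25 : n = 25 := by rw [hIcard]; norm_num
        have h1 : Nat.card S0 ∣ 15 := hodd_part 5 15 (by simpa [Fin.prod_univ_two] using hgl)
        have h2 := Nat.le_of_dvd (by norm_num) h1
        have h3 : Nat.card G - 1 ≤ 374 := by rw [hGcard, hn25]; omega
        rw [hn25]
        calc (Nat.card G - 1) * 2 ^ (5 * 25 / 9) ≤ 374 * 2 ^ (5 * 25 / 9) :=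
              Nat.mul_le_mul_right _ h3
          _ < _ := by norm_num
      · norm_num at hIcard
        omega

end Primitive

/-- Colourings of a union of orbits. -/
theorem dist_union {G I : Type} [Group G] [MulAction G I] (p : I → Prop)
    (hp : ∀ (g : G) i, p i → p (g • i))
    (h1 : ∀ [MulAction G {i // p i}], (∀ (g : G) (i : {i // p i}), ((g • i : {i // p i}) : I) = g • (i : I)) →
      ∃ c : {i // p i} → Bool, Dist G {i // p i} c)
    (h2 : ∀ [MulAction G {i // ¬ p i}],
      (∀ (g : G) (i : {i // ¬ p i}), ((g • i : {i // ¬ p i}) : I) = g • (i : I)) →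
      ∃ c : {i // ¬ p i} → Bool, Dist G {i // ¬ p i} c) :
    ∃ c : I → Bool, Dist G I c := by
  classical
  have hp' : ∀ (g : G) i, ¬ p i → ¬ p (g • i) := fun g i hi h => hi (by
    have := hp g⁻¹ _ h
    rwa [inv_smul_smul] at this)
  letI a1 : MulAction G {i // p i} :=
    { smul := fun g i => ⟨g • i.1, hp g _ i.2⟩
      one_smul := fun i => Subtype.ext (one_smul G i.1)
      mul_smul := fun a b i => Subtype.ext (mul_smul a b i.1) }
  letI a2 : MulAction G {i // ¬ p i} :=
    { smul := fun g i => ⟨g • i.1, hp' g _ i.2⟩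
      one_smul := fun i => Subtype.ext (one_smul G i.1)
      mul_smul := fun a b i => Subtype.ext (mul_smul a b i.1) }
  obtain ⟨c1, hc1⟩ := h1 (fun _ _ => rfl)
  obtain ⟨c2, hc2⟩ := h2 (fun _ _ => rfl)
  refine ⟨fun i => if h : p i then c1 ⟨i, h⟩ else c2 ⟨i, h⟩, fun g hg i => ?_⟩
  by_cases hi : p i
  · refine congrArg Subtype.val (hc1 g (fun j => ?_) ⟨i, hi⟩)
    have := hg j.1
    simp only [dif_pos (hp g _ j.2), dif_pos j.2] at this
    exact this
  · refine congrArg Subtype.val (hc2 g (fun j => ?_) ⟨i, hi⟩)
    have := hg j.1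
    simp only [dif_neg (hp' g _ j.2), dif_neg j.2] at this
    exact this

theorem dist_aux (FT : SolvOdd) : ∀ (n : ℕ) (G I : Type) [Group G] [Finite G] [MulAction G I] [Finite I],
    Nat.card I ≤ n → Lin (Nat.card I) → Odd (Nat.card G) → ∃ c : I → Bool, Dist G I c := by
  intro n
  induction n using Nat.strong_induction_on with
  | _ n ih =>
    intro G I _ _ _ _ hn hlin hodd
    have lin_mono : ∀ m, m ≤ Nat.card I → Lin m := fun m hm V _ _ H _ _ _ hV =>
      hlin V H (hV.trans hm)
    rcases lt_or_ge (Nat.card I) 2 with hsmall | hI2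
    · haveI : Subsingleton I := Finite.card_le_one_iff_subsingleton.mp (by omega)
      exact ⟨fun _ => false, fun g _ i => Subsingleton.elim _ _⟩
    haveI : Nonempty I := (Nat.card_pos_iff.mp (by omega)).1
    classical
    by_cases htr : IsPretransitive G I
    swap
    · obtain ⟨a, b, hab⟩ : ∃ a b : I, b ∉ orbit G a := by
        by_contra hno
        push Not at hno
        exact htr ⟨fun a b => hno a b⟩
      refine dist_union (fun i => i ∈ orbit G a) (fun g i hi => by
        obtain ⟨h, rfl⟩ := hi; exact ⟨g * h, mul_smul g h a⟩) ?_ ?_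
      · intro _ _
        have hlt : Nat.card {i // i ∈ orbit G a} < Nat.card I :=
          Finite.card_subtype_lt (p := fun i => i ∈ orbit G a) (x := b) hab
        exact ih (Nat.card {i // i ∈ orbit G a}) (by omega) G _ le_rfl (lin_mono _ hlt.le) hodd
      · intro _ _
        have hlt : Nat.card {i // i ∉ orbit G a} < Nat.card I :=
          Finite.card_subtype_lt (p := fun i => i ∉ orbit G a) (x := a) (by simp)
        exact ih (Nat.card {i // i ∉ orbit G a}) (by omega) G _ le_rfl (lin_mono _ hlt.le) hodd
    haveI := htr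
    by_cases hpr : IsPreprimitive G I
    · -- primitive: pass to the faithful image
      let φ := toPermHom G I
      haveI : Finite φ.range := inferInstance
      haveI : IsPreprimitive φ.range I := by
        let f : I →ₑ[φ.rangeRestrict] I :=
          { toFun := id
            map_smul' := fun g i => rfl }
        exact IsPreprimitive.of_surjective (f := f) Function.surjective_id
      obtain ⟨c, hc⟩ := dist_of_primitive (G := φ.range) (I := I) FT hlin
        (Odd.of_dvd_nat hodd (Subgroup.card_range_dvd φ)) hI2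
      exact ⟨c, fun g hg i => hc ⟨φ g, g, rfl⟩ hg i⟩
    -- a non-trivial block
    obtain ⟨B, hB, hBnt⟩ : ∃ B : Set I, IsBlock G B ∧ ¬ IsTrivialBlock B := by
      by_contra hno
      push Not at hno
      exact hpr ⟨fun {B} hB => hno B hB⟩
    rw [IsTrivialBlock, not_or, Set.not_subsingleton_iff] at hBnt
    obtain ⟨⟨b0, hb0, b1, hb1, hbne⟩, hBu⟩ := hBnt
    have hBne : B.Nonempty := ⟨b0, hb0⟩
    have hsys := hB.isBlockSystem hBne
    let J := {j : Set I // ∃ g : G, g • B = j}
    letI : MulAction G J :=
      { smul := fun g j => ⟨g • j.1, by obtain ⟨h, hh⟩ := j.2; exact ⟨g * h, by rw [mul_smul, hh]⟩⟩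
        one_smul := fun j => Subtype.ext (one_smul G j.1)
        mul_smul := fun a b j => Subtype.ext (mul_smul a b j.1) }
    have hblk : ∀ i : I, ∃! j : J, i ∈ j.1 := by
      intro i
      obtain ⟨S, ⟨⟨g, hg⟩, hiS⟩, huniq⟩ := hsys.1.2 i
      exact ⟨⟨S, g, hg⟩, hiS, fun j hj => Subtype.ext (huniq j.1 ⟨by
        obtain ⟨h, hh⟩ := j.2; exact ⟨h, hh⟩, hj⟩)⟩
    choose blk hblk1 hblk2 using hblk
    haveI : Finite J := Subtype.finite
    have hJlt : Nat.card J < Nat.card I := by
      have hsurj : Function.Surjective blk := by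
        rintro ⟨S, g, rfl⟩
        exact ⟨g • b0, (hblk2 (g • b0) ⟨g • B, g, rfl⟩ (Set.smul_mem_smul_set hb0)).symm⟩
      refine lt_of_le_of_ne (Nat.card_le_card_of_surjective blk hsurj) fun he => ?_
      have hinj := ((Nat.bijective_iff_surjective_and_card blk).mpr ⟨hsurj, he.symm⟩).1
      exact hbne (hinj ((hblk2 b0 ⟨B, 1, one_smul G B⟩ hb0).symm.trans (hblk2 b1 ⟨B, 1, one_smul G B⟩ hb1)))
    let HB : Subgroup G := stabilizer G B
    letI : MulAction HB B :=
      { smul := fun h i => ⟨(h : G) • i.1, by
          have := Set.smul_mem_smul_set (a := (h : G)) i.2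
          rwa [show (h : G) • B = B from h.2] at this⟩
        one_smul := fun i => Subtype.ext (one_smul G i.1)
        mul_smul := fun a b i => Subtype.ext (mul_smul (a : G) (b : G) i.1) }
    have hBlt : Nat.card B < Nat.card I := by
      obtain ⟨x, hx⟩ := (Set.ne_univ_iff_exists_notMem B).mp hBu
      exact Finite.card_subtype_lt (p := fun i => i ∈ B) (x := x) hx
    obtain ⟨c0, hc0⟩ := ih (Nat.card B) (by omega) HB B le_rfl (lin_mono _ hBlt.le)
      (Odd.of_dvd_nat hodd (Subgroup.card_subgroup_dvd_card HB))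
    obtain ⟨d, hd⟩ := ih (Nat.card J) (by omega) G J le_rfl (lin_mono _ hJlt.le) hodd
    choose tr htr' using fun j : J => j.2
    have hmemB : ∀ i : I, (tr (blk i))⁻¹ • i ∈ B := fun i => by
      have h1 : i ∈ (blk i).1 := hblk1 i
      rw [← htr' (blk i)] at h1
      exact Set.mem_smul_set_iff_inv_smul_mem.mp h1
    have nocompl : ∀ h : HB, ¬ (∀ b : B, c0 (h • b) = !c0 b) := by
      intro h hh
      have h2 : ∀ b : B, (h * h) • b = b := hc0 _ fun b => by
        rw [mul_smul, hh, hh, Bool.not_not]
      obtain ⟨k, hk⟩ := (Odd.of_dvd_nat hodd (orderOf_dvd_natCard (h : G)) : Odd (orderOf (h : G)))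
      have hfix : ∀ b : B, h • b = b := by
        intro b
        have hpow : ∀ m : ℕ, (h * h) ^ m • b = b := by
          intro m
          induction m with
          | zero => rw [pow_zero, one_smul]
          | succ m ihm => rw [pow_succ, mul_smul, h2, ihm]
        have e : h ^ (2 * k + 1) = 1 := by
          rw [← hk, Subgroup.orderOf_coe]; exact pow_orderOf_eq_one h
        rw [pow_succ, pow_mul, pow_two, mul_eq_one_iff_eq_inv] at e
        have h4 := hpow k
        rw [e, inv_smul_eq_iff] at h4
        exact h4.symm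
      have := hh ⟨b0, hb0⟩
      rw [hfix] at this
      exact Bool.not_ne_self _ this.symm
    refine ⟨fun i => xor (c0 ⟨(tr (blk i))⁻¹ • i, hmemB i⟩) (d (blk i)), fun g hg i => ?_⟩
    have hblkg : ∀ i, blk (g • i) = g • blk i := fun i =>
      (hblk2 (g • i) (g • blk i) (Set.smul_mem_smul_set (hblk1 i))).symm
    have hkmem : ∀ j : J, (tr (g • j))⁻¹ * g * tr j ∈ HB := fun j => by
      rw [mem_stabilizer_iff, mul_smul, mul_smul, htr' j]
      exact inv_smul_eq_iff.mpr (htr' (g • j)).symm
    have hloc : ∀ (j : J) (b : B),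
        xor (c0 ((⟨_, hkmem j⟩ : HB) • b)) (d (g • j)) = xor (c0 b) (d j) := by
      intro j b
      have hb : blk (tr j • (b : I)) = j := by
        refine (hblk2 _ j ?_).symm
        show tr j • (b : I) ∈ j.1
        rw [← htr' j]
        exact Set.smul_mem_smul_set b.2
      have h1 := hg (tr j • (b : I))
      simp only [hblkg, hb] at h1
      convert h1 using 3
      · apply Subtype.ext
        show ((tr (g • j))⁻¹ * g * tr j) • (b : I) = (tr (g • j))⁻¹ • g • tr j • (b : I)
        rw [mul_smul, mul_smul]
      · apply Subtype.ext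
        show (b : I) = (tr j)⁻¹ • tr j • (b : I)
        rw [inv_smul_smul]
    have hd' : ∀ j : J, d (g • j) = d j := by
      intro j
      by_contra hne
      refine nocompl ⟨_, hkmem j⟩ fun b => ?_
      have h1 := hloc j b
      revert h1 hne
      cases d (g • j) <;> cases d j <;> cases c0 b <;>
        cases c0 ((⟨_, hkmem j⟩ : HB) • b) <;> simp
    have hfixJ := hd g hd'
    have hk : ∀ b : B, ((⟨_, hkmem (blk i)⟩ : HB) • b) = b := hc0 _ fun b => by
      have h1 := hloc (blk i) b
      rw [hd'] at h1
      revert h1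
      cases d (blk i) <;> simp
    have h2 : ((tr (g • blk i))⁻¹ * g * tr (blk i)) • ((tr (blk i))⁻¹ • i) = (tr (blk i))⁻¹ • i :=
      congrArg Subtype.val (hk ⟨_, hmemB i⟩)
    rwa [hfixJ, mul_smul, mul_smul, smul_inv_smul, smul_left_cancel_iff] at h2

/-- A group of odd order has a two-colouring preserved only by the elements fixing all points. -/
theorem exists_dist {G I : Type} [Group G] [Finite G] [MulAction G I] [Finite I]
    (FT : SolvOdd) (hlin : Lin (Nat.card I)) (hodd : Odd (Nat.card G)) :
    ∃ c : I → Bool, Dist G I c :=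
  dist_aux FT _ G I le_rfl hlin hodd

end Cfsg.Agent.BC85.BaseTwo
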