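import Mathlib
import Cfsg.Agent.BC85.BaseTwo.Basic

/-!
# Fixed point spaces and the union bound
-/

set_option autoImplicit false

namespace Cfsg.Agent.BC85.BaseTwo

variable {H V : Type} [Group H] [AddCommGroup V] [DistribMulAction H V]

variable (V) in
/-- The vectors fixed by one element. -/
def fix (g : H) : AddSubgroup V where
  carrier := {v | g • v = v}
  zero_mem' := smul_zero g
  add_mem' := fun {a b} ha hb => by
    show g • (a + b) = a + b
    rw [smul_add, show g • a = a from ha, show g • b = b from hb]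
  neg_mem' := fun {a} ha => by
    show g • (-a) = -a
    rw [smul_neg, show g • a = a from ha]

theorem mem_fix {g : H} {v : V} : v ∈ fix V g ↔ g • v = v := Iff.rfl

/-- The union bound. -/
theorem exists_reg_of_sum [Finite H] [Finite V] [FaithfulSMul H V] [Fintype H] [DecidableEq H]
    (hodd : Odd (Nat.card H))
    (h : ∑ g ∈ Finset.univ.erase (1 : H), Nat.card (fix V g) ^ 2 < 2 * Nat.card V ^ 2) :
    ∃ p : V × V, Reg H V p := by
  classical
  haveI : Fintype V := Fintype.ofFinite V
  by_contra hno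
  push Not at hno
  let B : H → Finset (V × V) := fun g => Finset.univ.filter fun p => g • p.1 = p.1 ∧ g • p.2 = p.2
  have hbad : ∀ p : V × V, ∃ g : H, g ≠ 1 ∧ g • p.1 = p.1 ∧ g • p.2 = p.2 := by
    intro p
    have := hno p
    simp only [Reg, not_forall] at this
    obtain ⟨g, h1, h2, h3⟩ := this
    exact ⟨g, fun he => h3 (he ▸ fun v => one_smul H v), h1, h2⟩
  have hB : ∀ p : V × V, 2 ≤ ((Finset.univ.erase (1 : H)).filter fun g => p ∈ B g).card := by
    intro p
    obtain ⟨g, hg, h1, h2⟩ := hbad p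
    have hsub : ({g, g⁻¹} : Finset H) ⊆ (Finset.univ.erase (1 : H)).filter fun g => p ∈ B g := by
      intro x hx
      simp only [Finset.mem_insert, Finset.mem_singleton] at hx
      rcases hx with rfl | rfl
      · simp [B, hg, h1, h2]
      · exact Finset.mem_filter.mpr ⟨Finset.mem_erase.mpr ⟨inv_ne_one.mpr hg, Finset.mem_univ _⟩,
          Finset.mem_filter.mpr ⟨Finset.mem_univ _, inv_smul_eq_iff.mpr h1.symm,
            inv_smul_eq_iff.mpr h2.symm⟩⟩
    have hne : g ≠ g⁻¹ := by
      intro he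
      apply hg
      have h2 : g ^ 2 = 1 := by rw [pow_two]; nth_rewrite 2 [he]; exact mul_inv_cancel g
      have h3 : orderOf g ∣ 2 := orderOf_dvd_of_pow_eq_one h2
      rcases (Nat.dvd_prime Nat.prime_two).mp h3 with h | h
      · exact orderOf_eq_one_iff.mp h
      · exact absurd (Odd.of_dvd_nat hodd (h ▸ orderOf_dvd_natCard g)) (by decide)
    calc 2 = ({g, g⁻¹} : Finset H).card := (Finset.card_pair hne).symm
      _ ≤ _ := Finset.card_le_card hsub
  have hcard : ∀ g : H, (B g).card = Nat.card (fix V g) ^ 2 := by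
    intro g
    rw [pow_two, ← Nat.card_prod]
    have e : {p : V × V // g • p.1 = p.1 ∧ g • p.2 = p.2} ≃ fix V g × fix V g :=
      { toFun := fun p => (⟨p.1.1, p.2.1⟩, ⟨p.1.2, p.2.2⟩)
        invFun := fun q => ⟨(q.1.1, q.2.1), q.1.2, q.2.2⟩
        left_inv := fun _ => rfl
        right_inv := fun _ => rfl }
    rw [← Nat.card_congr e, Nat.card_eq_fintype_card, Fintype.card_subtype]
  have h1 : 2 * Nat.card V ^ 2 ≤ ∑ g ∈ Finset.univ.erase (1 : H), (B g).card := by
    have h2 := Finset.sum_le_sum (s := (Finset.univ : Finset (V × V))) fun p _ => hB p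
    rw [Finset.sum_const, Finset.card_univ, Fintype.card_prod, smul_eq_mul,
      ← Nat.card_eq_fintype_card, ← pow_two, mul_comm] at h2
    refine h2.trans (le_of_eq ?_)
    simp only [Finset.card_filter]
    rw [Finset.sum_comm]
    refine Finset.sum_congr rfl fun g _ => ?_
    rw [← Finset.card_filter]
    congr 1
    ext p
    simp [B]
  simp only [hcard] at h1
  omega

/-- Two translates of a fixed space. -/
theorem fix_sq_le [Finite V] {g x y : H} (hy : y * g * y⁻¹ = x * g) :
    Nat.card (fix V g) ^ 2 ≤ Nat.card V * Nat.card (fix V g ⊓ fix V x : AddSubgroup V) := by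
  let Φ : fix V g × fix V g →+ V :=
    AddMonoidHom.mk' (fun p => (p.1 : V) + y • (p.2 : V)) fun p q => by
      show ((p.1 + q.1 : fix V g) : V) + y • ((p.2 + q.2 : fix V g) : V) = _
      rw [AddSubgroup.coe_add, AddSubgroup.coe_add, smul_add]
      abel
  have hker : ∀ p ∈ Φ.ker, (p.1 : V) ∈ fix V g ⊓ fix V x ∧ (p.2 : V) = y⁻¹ • (-(p.1 : V)) := by
    intro p hp
    have h1 : (p.1 : V) + y • (p.2 : V) = 0 := hp
    have h2 : y • (p.2 : V) = -(p.1 : V) := eq_neg_of_add_eq_zero_right h1
    refine ⟨⟨p.1.2, ?_⟩, by rw [← h2, inv_smul_smul]⟩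
    have h3 : (x * g) • (y • (p.2 : V)) = y • (p.2 : V) := by
      rw [← hy, mul_smul, mul_smul, inv_smul_smul, show g • (p.2 : V) = p.2 from p.2.2]
    rw [h2, mul_smul, smul_neg g, show g • (p.1 : V) = p.1 from p.1.2, smul_neg, neg_inj] at h3
    exact h3
  have h1 : Nat.card Φ.ker ≤ Nat.card (fix V g ⊓ fix V x : AddSubgroup V) := by
    refine Nat.card_le_card_of_injective (fun p => ⟨(p.1.1 : V), (hker p.1 p.2).1⟩) fun p q h => ?_
    have h1 : (p.1.1 : V) = q.1.1 := by simpa using h
    exact Subtype.ext (Prod.ext (Subtype.ext h1)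
      (Subtype.ext (by rw [(hker p.1 p.2).2, (hker q.1 q.2).2, h1])))
  have h2 : Nat.card Φ.range ≤ Nat.card V := AddSubgroup.card_le_card_addGroup _
  have h3 : Nat.card (fix V g) ^ 2 = Nat.card Φ.ker * Nat.card Φ.range := by
    rw [pow_two, ← Nat.card_prod, ← AddSubgroup.index_ker, AddSubgroup.card_mul_index]
  rw [h3, mul_comm (Nat.card V)]
  exact Nat.mul_le_mul h1 h2

variable {K : Type} [Field K] [Module K V]

/-- Three eigenspaces. -/
theorem fix_cube_le [Finite V] {x y : H} (lam : K) (h0 : lam ≠ 0) (h1 : lam ≠ 1) (h2 : lam ^ 2 ≠ 1)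
    (hlin : ∀ (k : K) (v : V), x • k • v = k • x • v)
    (hxy : ∀ v : V, x • y • v = lam • y • x • v) (hxyy : ∀ v : V, x • y • y • v = lam ^ 2 • y • y • x • v) :
    Nat.card (fix V x) ^ 3 ≤ Nat.card V := by
  rw [show Nat.card (fix V x) ^ 3 = Nat.card (fix V x × fix V x × fix V x) by
    rw [Nat.card_prod, Nat.card_prod]; ring]
  refine Nat.card_le_card_of_injective
    (fun p => (p.1 : V) + y • (p.2.1 : V) + y • y • (p.2.2 : V)) fun p q h => ?_
  set a := (p.1 : V) - q.1 with ha
  set b := y • ((p.2.1 : V) - q.2.1) with hb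
  set c := y • y • ((p.2.2 : V) - q.2.2) with hc
  have e0 : a + b + c = 0 := by
    have h' : (p.1 : V) + y • (p.2.1 : V) + y • y • (p.2.2 : V) =
        q.1 + y • (q.2.1 : V) + y • y • (q.2.2 : V) := h
    rw [ha, hb, hc, smul_sub, smul_sub, smul_sub]
    rw [← sub_eq_zero] at h'
    rw [← h']
    abel
  have hfa : x • a = a := sub_mem (p.1.2 : _ ∈ fix V x) q.1.2
  have hfb : x • b = lam • b := by
    rw [hb, hxy]
    congr 2
    exact sub_mem (p.2.1.2 : _ ∈ fix V x) q.2.1.2
  have hfc : x • c = lam ^ 2 • c := by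
    rw [hc, hxyy]
    congr 3
    exact sub_mem (p.2.2.2 : _ ∈ fix V x) q.2.2.2
  clear_value a b c
  have e1 : a + lam • b + lam ^ 2 • c = 0 := by
    rw [← hfa, ← hfb, ← hfc, ← smul_add, ← smul_add, e0, smul_zero]
  have e2 : a + lam ^ 2 • b + lam ^ 4 • c = 0 := by
    have h' := congrArg (fun v => x • v) e1
    simp only [smul_add, hlin, hfa, hfb, hfc, smul_zero, smul_smul] at h'
    rw [show lam ^ 4 = lam ^ 2 * lam ^ 2 by ring, show lam ^ 2 • b = (lam * lam) • b by rw [pow_two]]
    exact h'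
  have hc0 : (lam * (lam - 1) * (lam ^ 2 - 1)) • c = 0 := by
    have : (lam * (lam - 1) * (lam ^ 2 - 1)) • c =
        (a + lam ^ 2 • b + lam ^ 4 • c) - (1 + lam) • (a + lam • b + lam ^ 2 • c) +
          lam • (a + b + c) := by module
    rw [this, e0, e1, e2, smul_zero, smul_zero, sub_zero, add_zero]
  have hc' : c = 0 := (smul_eq_zero.mp hc0).resolve_left
    (mul_ne_zero (mul_ne_zero h0 (sub_ne_zero.mpr h1)) (sub_ne_zero.mpr h2))
  rw [hc', add_zero] at e0
  rw [hc', smul_zero, add_zero] at e1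
  have hb' : b = 0 := by
    have : (lam - 1) • b = 0 := by
      have : (lam - 1) • b = (a + lam • b) - (a + b) := by module
      rw [this, e0, e1, sub_zero]
    exact (smul_eq_zero.mp this).resolve_left (sub_ne_zero.mpr h1)
  rw [hb', add_zero, ha] at e0
  rw [hb] at hb'
  rw [hc] at hc'
  refine Prod.ext (Subtype.ext (sub_eq_zero.mp e0)) (Prod.ext (Subtype.ext ?_) (Subtype.ext ?_))
  · exact sub_eq_zero.mp ((smul_eq_zero_iff_eq y).mp hb')
  · exact sub_eq_zero.mp ((smul_eq_zero_iff_eq y).mp ((smul_eq_zero_iff_eq y).mp hc'))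

end Cfsg.Agent.BC85.BaseTwo
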