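import Mathlib
import Cfsg.Agent.BC85.BaseTwo.Tools
import Cfsg.Agent.BC85.BaseTwo.Pairing
import Cfsg.Agent.Lib.Thompson.Cores

/-!
# Bounds for the symplectic part of a primitive linear group of odd order
-/

set_option autoImplicit false

namespace Cfsg.Agent.BC85.BaseTwo

open scoped commutatorElement

section Module

variable {H V : Type} [Group H] [Finite H] [AddCommGroup V] [Finite V] [DistribMulAction H V]

/-- A completely reducible module of prime power order has prime exponent. -/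
theorem smul_prime_eq_zero {r j : ℕ} [Fact r.Prime] (hcr : CR H V) (hcard : Nat.card V = r ^ j)
    (v : V) : r • v = 0 := by
  let R0 : AddSubgroup V := (DistribSMul.toAddMonoidHom V r).ker
  have hmem : ∀ x, x ∈ R0 ↔ r • x = 0 := fun x => Iff.rfl
  obtain ⟨W, hW, hinf, hsup⟩ := hcr R0 (fun h x hx => by
    rw [hmem] at hx ⊢
    exact ((DistribSMul.toAddMonoidHom V h).map_nsmul r x).symm.trans
      (by show h • (r • x) = 0; rw [hx, smul_zero]))
  have hW0 : W = ⊥ := by
    by_contra hne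
    obtain ⟨c, -, hc⟩ := (Nat.dvd_prime_pow (Fact.out : r.Prime)).mp
      (hcard ▸ AddSubgroup.card_addSubgroup_dvd_card W)
    have hdvd : r ∣ Nat.card W := by
      rcases Nat.eq_zero_or_pos c with rfl | hc0
      · rw [pow_zero] at hc
        exact absurd (AddSubgroup.eq_bot_of_card_eq W hc) hne
      · exact hc ▸ dvd_pow_self r hc0.ne'
    obtain ⟨w, hw⟩ := exists_prime_addOrderOf_dvd_card' r hdvd
    have h1 : r • w = 0 := hw ▸ addOrderOf_nsmul_eq_zero w
    have h2 : (w : V) ∈ R0 ⊓ W := ⟨(hmem _).mpr (congrArg Subtype.val h1), w.2⟩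
    rw [hinf, AddSubgroup.mem_bot] at h2
    rw [show w = 0 from Subtype.ext h2, addOrderOf_zero] at hw
    exact (Fact.out : r.Prime).ne_one hw.symm
  rw [hW0, sup_bot_eq] at hsup
  exact (hmem v).mp (hsup ▸ AddSubgroup.mem_top v)

/-- Normal subgroups of the faithful image inherit the absence of normal `r`-subgroups. -/
theorem no_normal_pgroup {r j : ℕ} [Fact r.Prime] (hcr : CR H V) (hcard : Nat.card V = r ^ j)
    (C : Subgroup H) [C.Normal] (R : Subgroup (C.map (QuotientGroup.mk' (ker H V))))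
    (hR : R.Normal) (hp : IsPGroup r R) : R = ⊥ := by
  set π := QuotientGroup.mk' (ker H V)
  haveI : (C.map π).Normal := Subgroup.Normal.map inferInstance π (QuotientGroup.mk'_surjective _)
  let φ : H ⧸ ker H V →* AddMonoid.End V :=
    QuotientGroup.lift _ (DistribMulAction.toAddMonoidEnd H V) fun h hh => by
      rw [MonoidHom.mem_ker]
      exact AddMonoidHom.ext fun v => mem_ker.mp hh v
  letI : DistribMulAction (H ⧸ ker H V) V := DistribMulAction.compHom V φ
  have hsmul : ∀ (h : H) (v : V), π h • v = h • v := fun _ _ => rfl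
  have hcr' : CR (H ⧸ ker H V) V := by
    intro W hW
    obtain ⟨W', hW', h1, h2⟩ := hcr W fun h v hv => hsmul h v ▸ hW (π h) v hv
    refine ⟨W', fun q v hv => ?_, h1, h2⟩
    obtain ⟨h, rfl⟩ := QuotientGroup.mk'_surjective _ q
    rw [hsmul]
    exact hW' h v hv
  let P : Subgroup (H ⧸ ker H V) := (Cfsg.pCore r (C.map π)).map (C.map π).subtype
  haveI : P.Normal := Thompson.map_subtype_normal_of_characteristic _ _
  have hP : P ≤ ker (H ⧸ ker H V) V :=
    triv_of_normal_pgroup hcr' hcard P (Thompson.isPGroup_pCore.map _)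
  rw [eq_bot_iff]
  intro x hx
  have h1 : (x : H ⧸ ker H V) ∈ P := Subgroup.mem_map_of_mem _ (Thompson.le_pCore hR hp hx)
  obtain ⟨h, hh⟩ := QuotientGroup.mk'_surjective (ker H V) (x : H ⧸ ker H V)
  have h2 : Triv V h := fun v => by
    rw [← hsmul h v, show π h = (x : H ⧸ ker H V) from hh]
    exact mem_ker.mp (hP h1) v
  rw [Subgroup.mem_bot]
  apply Subtype.ext
  rw [OneMemClass.coe_one, ← hh]
  exact (QuotientGroup.eq_one_iff h).mpr (mem_ker.mpr h2)

end Module

/-- A Sylow count: groups of order dividing `63` without normal `7`-subgroups. -/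
theorem dvd_nine {S : Type*} [Group S] [Finite S] (hdvd : Nat.card S ∣ 63)
    (hno : ∀ R : Subgroup S, R.Normal → IsPGroup 7 R → R = ⊥) : Nat.card S ∣ 9 := by
  haveI : Fact (Nat.Prime 7) := ⟨by norm_num⟩
  obtain ⟨P⟩ := (inferInstance : Nonempty (Sylow 7 S))
  have h7 : ¬ 7 ∣ Nat.card S := by
    intro h
    have h1 : Nat.card (Sylow 7 S) ∣ (P : Subgroup S).index := P.card_dvd_index
    have h2 : (P : Subgroup S).index ∣ 63 := dvd_trans (Subgroup.index_dvd_card _) hdvd
    have h3 := card_sylow_modEq_one 7 S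
    have h4 : (P : Subgroup S).index ∣ 9 := by
      have h7' : ¬ 7 ∣ (P : Subgroup S).index := P.not_dvd_index
      exact ((Nat.Prime.coprime_iff_not_dvd (by norm_num)).mpr h7').symm.dvd_of_dvd_mul_left
        (show (P : Subgroup S).index ∣ 7 * 9 by exact h2)
    have h5 : Nat.card (Sylow 7 S) = 1 := by
      have h6 := Nat.le_of_dvd (by norm_num) (h1.trans h4)
      have h7 := h1.trans h4
      rw [Nat.ModEq] at h3
      interval_cases (Nat.card (Sylow 7 S)) <;> first | rfl | omega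
    haveI : Subsingleton (Sylow 7 S) := (Nat.card_eq_one_iff_unique.mp h5).1
    have hb := hno P P.normal_of_subsingleton P.2
    have h8 := P.not_dvd_index
    rw [hb, Subgroup.index_bot] at h8
    exact h8 h
  exact ((Nat.Prime.coprime_iff_not_dvd (by norm_num)).mpr h7).symm.dvd_of_dvd_mul_left
    (show Nat.card S ∣ 7 * 9 by exact hdvd)

theorem modEq_fixed {α : Type} [Finite α] (σ : α → α) (p : ℕ) [Fact p.Prime]
    (h : ∀ a, σ^[p] a = a) : Nat.card α ≡ Nat.card {a // σ a = a} [MOD p] := by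
  classical
  haveI : Fintype α := Fintype.ofFinite α
  let f : Function.End α := σ
  have hf : f ^ p ^ 1 = 1 := by
    rw [pow_one]
    funext a
    show (f ^ p : Function.End α) a = a
    have : ∀ k, (f ^ k : Function.End α) a = σ^[k] a := by
      intro k
      induction k with
      | zero => rfl
      | succ k ih =>
        rw [pow_succ', Function.iterate_succ_apply', ← ih]
        rfl
    rw [this, h]
  have h1 := Equiv.Perm.card_fixedPoints_modEq hf
  rw [← Nat.card_eq_fintype_card, ← Nat.card_eq_fintype_card] at h1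
  exact h1

/-- No element of order thirteen acts on a section of order `81`. -/
theorem thirteen {H : Type} [Group H] [Finite H] (U : Subgroup H) [U.Normal] {K : Type} [Field K]
    [Finite K] (ι : U →* Kˣ) (hι : Function.Injective ι) (N : Subgroup H) (hN : IsSec U N)
    (hx : U.relIndex N = 81) (g : H) (hg : g ∈ Subgroup.centralizer (U : Set H))
    (h13 : ∀ y ∈ N, ⁅g ^ 13, y⁆ ∈ U) : ∀ y ∈ N, ⁅g, y⁆ ∈ U := by
  set π := QuotientGroup.mk' U with hπ
  have hπmem : ∀ a b : H, π a * π b = π b * π a ↔ ⁅a, b⁆ ∈ U := fun a b => by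
    rw [← commutatorElement_eq_one_iff_mul_comm, ← map_commutatorElement, ← MonoidHom.mem_ker,
      hπ, QuotientGroup.ker_mk']
  have hcard : ∀ A : Subgroup H, Nat.card (A.map π) = U.relIndex A := fun A => by
    have h := Subgroup.relIndex_ker (K := A) π
    rw [hπ, QuotientGroup.ker_mk'] at h
    rw [h, hπ]
  let L : Subgroup H := N ⊓ (Subgroup.centralizer ({π g} : Set (H ⧸ U))).comap π
  have hLmem : ∀ n, n ∈ L ↔ n ∈ N ∧ ⁅g, n⁆ ∈ U := fun n => by
    rw [Subgroup.mem_inf, Subgroup.mem_comap, Subgroup.mem_centralizer_singleton_iff, ← hπmem, eq_comm]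
  -- counting fixed points on an invariant subgroup
  have count : ∀ Y : Subgroup H, L ≤ Y → Y ≤ N → (∀ y ∈ Y, g * y * g⁻¹ ∈ Y) →
      U.relIndex Y % 13 = U.relIndex L % 13 := by
    intro Y hLY hYN hinv
    let σ : Y.map π → Y.map π := fun y => ⟨π g * y * (π g)⁻¹, by
      obtain ⟨n, hn, hn'⟩ := Subgroup.mem_map.mp y.2
      exact Subgroup.mem_map.mpr ⟨g * n * g⁻¹, hinv n hn, by rw [map_mul, map_mul, map_inv, hn']⟩⟩
    have hit : ∀ (k : ℕ) (y : Y.map π), (σ^[k] y : H ⧸ U) = π g ^ k * y * (π g ^ k)⁻¹ := by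
      intro k y
      induction k with
      | zero => simp
      | succ k ih =>
        rw [Function.iterate_succ_apply']
        show π g * (σ^[k] y : H ⧸ U) * (π g)⁻¹ = _
        rw [ih, pow_succ', mul_inv_rev]
        group
    haveI : Fact (Nat.Prime 13) := ⟨by norm_num⟩
    have h1 := modEq_fixed σ 13 (fun y => by
      apply Subtype.ext
      rw [hit]
      obtain ⟨n, hn, hn'⟩ := Subgroup.mem_map.mp y.2
      rw [← hn', ← map_pow, mul_inv_eq_iff_eq_mul]
      exact (hπmem _ _).mpr (h13 n (hYN hn)))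
    have e : {y : Y.map π // σ y = y} ≃ L.map π :=
      { toFun := fun y => ⟨y.1.1, by
          obtain ⟨n, hn, hn'⟩ := Subgroup.mem_map.mp y.1.2
          have h2 : π g * π n * (π g)⁻¹ = π n := by
            rw [hn']; exact congrArg Subtype.val y.2
          exact Subgroup.mem_map.mpr ⟨n, (hLmem n).mpr ⟨hYN hn,
            (hπmem g n).mp (mul_inv_eq_iff_eq_mul.mp h2)⟩, hn'⟩⟩
        invFun := fun y => ⟨⟨y.1, Subgroup.map_mono hLY y.2⟩, by
          obtain ⟨n, hn, hn'⟩ := Subgroup.mem_map.mp y.2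
          apply Subtype.ext
          show π g * y.1 * (π g)⁻¹ = y.1
          rw [← hn', mul_inv_eq_iff_eq_mul]
          exact (hπmem g n).mpr ((hLmem n).mp hn).2⟩
        left_inv := fun _ => rfl
        right_inv := fun _ => rfl }
    rw [Nat.card_congr e, hcard, hcard] at h1
    exact h1
  have hUL : U ≤ L := fun u hu => (hLmem u).mpr ⟨hN.le hu, by
    rw [commutatorElement_eq_one_iff_mul_comm.mpr (Subgroup.mem_centralizer_iff.mp hg u hu).symm]
    exact U.one_mem⟩
  have hnorm : ∀ y ∈ N, g * y * g⁻¹ ∈ N := fun y hy => hN.normal.conj_mem y hy g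
  have hL81 : U.relIndex L ∣ 3 ^ 4 := by
    rw [show (3 : ℕ) ^ 4 = U.relIndex N by rw [hx]; norm_num,
      ← Subgroup.relIndex_mul_relIndex U L N hUL inf_le_left]
    exact dvd_mul_right _ _
  have hmodN := count N inf_le_left le_rfl hnorm
  rw [hx] at hmodN
  by_contra hno
  push Not at hno
  have hLN : L ≠ N := by
    intro h
    obtain ⟨y, hy, hy'⟩ := hno
    exact hy' ((hLmem y).mp (h ▸ hy)).2
  have hL3 : U.relIndex L = 3 := by
    have hne : U.relIndex L ≠ 81 := by
      intro h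
      apply hLN
      refine le_antisymm inf_le_left (Subgroup.relIndex_eq_one.mp ?_)
      have h1 := Subgroup.relIndex_mul_relIndex U L N hUL inf_le_left
      rw [h, hx] at h1
      omega
    obtain ⟨k, hk, hk'⟩ := (Nat.dvd_prime_pow Nat.prime_three).mp hL81
    rw [hk'] at hne hmodN ⊢
    interval_cases k <;> first | (norm_num at hne; done) | (norm_num at hmodN; done) | norm_num
  -- `L` is abelian
  have hLab : ∀ a ∈ L, ∀ b ∈ L, a * b = b * a := by
    obtain ⟨l, hl, hlU⟩ : ∃ l ∈ L, l ∉ U := by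
      by_contra h
      push Not at h
      rw [Subgroup.relIndex_eq_one.mpr h] at hL3
      omega
    haveI : Fact (Nat.card (L.map π)).Prime := ⟨by rw [hcard, hL3]; norm_num⟩
    have hgen : ∀ a ∈ L, ∃ u ∈ U, ∃ i : ℤ, a = l ^ i * u := by
      intro a ha
      let l' : L.map π := ⟨π l, Subgroup.mem_map_of_mem π hl⟩
      have hl' : l' ≠ 1 := fun h => hlU (by
        have := congrArg Subtype.val h
        exact (QuotientGroup.eq_one_iff l).mp this)
      have hz : (⟨π a, Subgroup.mem_map_of_mem π ha⟩ : L.map π) ∈ Subgroup.zpowers l' := by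
        rw [zpowers_eq_top_of_prime_card rfl hl']
        exact Subgroup.mem_top _
      obtain ⟨i, hi⟩ := Subgroup.mem_zpowers_iff.mp hz
      refine ⟨(l ^ i)⁻¹ * a, ?_, i, (mul_inv_cancel_left _ _).symm⟩
      rw [← QuotientGroup.eq_one_iff]
      show π ((l ^ i)⁻¹ * a) = 1
      rw [map_mul, map_inv, map_zpow, inv_mul_eq_one]
      have := congrArg Subtype.val hi
      rwa [SubgroupClass.coe_zpow] at this
    have hcen : ∀ u ∈ U, ∀ y ∈ N, u * y = y * u := fun u hu y hy =>
      Subgroup.mem_centralizer_iff.mp (hN.cen hy) u hu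
    intro a ha b hb
    obtain ⟨u, hu, i, rfl⟩ := hgen a ha
    obtain ⟨w, hw, j, rfl⟩ := hgen b hb
    have c1 : Commute u (l ^ j * w) := hcen u hu _ ((hLmem _).mp hb).1
    have c2' : Commute w l := hcen w hw l ((hLmem _).mp hl).1
    have c2 : Commute w (l ^ i) := c2'.zpow_right i
    exact ((((Commute.refl l).zpow_zpow i j).mul_right c2.symm).mul_left c1 :
      Commute (l ^ i * u) (l ^ j * w))
  let Y : Subgroup H := Subgroup.centralizer (L : Set H) ⊓ N
  have hLY : L ≤ Y := fun a ha => ⟨Subgroup.mem_centralizer_iff.mpr fun b hb => hLab b hb a ha,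
    ((hLmem a).mp ha).1⟩
  have hYinv : ∀ y ∈ Y, g * y * g⁻¹ ∈ Y := by
    intro y hy
    refine ⟨Subgroup.mem_centralizer_iff.mpr fun b hb => ?_, hnorm y hy.2⟩
    obtain ⟨hbN, hbU⟩ := (hLmem b).mp hb
    have hgN : ⁅g, b⁆ * b ∈ L := L.mul_mem (hUL hbU) hb
    have e : g * b * g⁻¹ = ⁅g, b⁆ * b := by simp only [commutatorElement_def]; group
    have h1 : g * b * g⁻¹ * (g * y * g⁻¹) = g * y * g⁻¹ * (g * b * g⁻¹) := by
      have := Subgroup.mem_centralizer_iff.mp hy.1 b hb
      calc g * b * g⁻¹ * (g * y * g⁻¹) = g * (b * y) * g⁻¹ := by group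
        _ = g * (y * b) * g⁻¹ := by rw [this]
        _ = _ := by group
    rw [e] at h1
    have h2 : ⁅g, b⁆ * (g * y * g⁻¹) = g * y * g⁻¹ * ⁅g, b⁆ :=
      Subgroup.mem_centralizer_iff.mp (hN.cen (hnorm y hy.2)) _ hbU
    generalize g * y * g⁻¹ = z at h1 h2 ⊢
    rw [mul_assoc, ← mul_assoc z, ← h2, mul_assoc] at h1
    exact mul_left_cancel h1
  have hYidx : Y.relIndex N ≤ 3 := by
    have h1 := relIndex_centralizer_le U ι hι N L U hN.cen (fun a ha => hN.cen ((hLmem a).mp ha).1)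
      (fun a ha b hb => hN.comm a ha b ((hLmem b).mp hb).1) hUL
      (Subgroup.Normal.subgroupOf inferInstance L)
      (fun a ha u hu => (Subgroup.mem_centralizer_iff.mp (hN.cen ha) u hu).symm)
    rwa [← Subgroup.inf_relIndex_right, hL3] at h1
  have hUY : U ≤ Y := hUL.trans hLY
  have hmul := Subgroup.relIndex_mul_relIndex U Y N hUY inf_le_right
  rw [hx] at hmul
  have hmodY := count Y hLY inf_le_right hYinv
  rw [hL3] at hmodY
  have hYN : Y = N := by
    refine le_antisymm inf_le_right (Subgroup.relIndex_eq_one.mp ?_)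
    have h0 : 0 < Y.relIndex N := Nat.pos_of_ne_zero Subgroup.index_ne_zero_of_finite
    interval_cases (Y.relIndex N) <;> omega
  have hLU : L ≤ U := fun a ha => hN.centre a (hN.cen ((hLmem a).mp ha).1) fun y hy =>
    Subgroup.mem_centralizer_iff.mp ((hYN ▸ hy : y ∈ Y)).1 a ha
  rw [Subgroup.relIndex_eq_one.mpr hLU] at hL3
  omega

theorem pow18_step {e : ℕ} (he : 17 ≤ e) : (e + 1) ^ 18 ≤ 16 * e ^ 18 := by
  have h1 : (17 * (e + 1)) ^ 18 ≤ (18 * e) ^ 18 := Nat.pow_le_pow_left (by omega) 18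
  rw [mul_pow, mul_pow] at h1
  have h2 : (18 : ℕ) ^ 18 * e ^ 18 ≤ 17 ^ 18 * (16 * e ^ 18) := by
    rw [← mul_assoc]; exact Nat.mul_le_mul_right _ (by norm_num)
  exact Nat.le_of_mul_le_mul_left (h1.trans h2) (by norm_num)

theorem pow18_le (b : ℕ) (hb : 4 ≤ b) (e0 : ℕ) (h0 : 17 ≤ e0) (hbase : e0 ^ 18 ≤ b ^ (2 * e0 - 3))
    {e : ℕ} (he : e0 ≤ e) : e ^ 18 ≤ b ^ (2 * e - 3) := by
  induction e, he using Nat.le_induction with
  | base => exact hbase
  | succ e he ih =>
    refine (pow18_step (h0.trans he)).trans ?_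
    rw [show 2 * (e + 1) - 3 = (2 * e - 3) + 2 by omega, pow_add, mul_comm (b ^ _)]
    exact Nat.mul_le_mul (by nlinarith) ih

/-- The numerical heart of the union bound. -/
theorem count_case {e d Q s : ℕ} (hodd : Odd e) (he : 3 ≤ e) (hd : e ≤ d) (hQ : 4 ≤ Q)
    (hdiv : ∀ r, r.Prime → r ∣ e → r ∣ Q - 1) (hs : s ≤ (e ^ 2) ^ 2) (h3 : e = 3 → s ≤ 1)
    (h5 : e = 5 → s ≤ 3) (h7 : e = 7 → s ≤ 9) (h9 : e = 9 → s ≤ 5) :
    (e = 3 ∧ s ≤ 1) ∨ ((Q - 1) * (e ^ 2 * s)) ^ 3 < Q ^ (2 * d) := by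
  by_cases he3 : e = 3
  · exact Or.inl ⟨he3, h3 he3⟩
  right
  refine lt_of_lt_of_le ?_ (Nat.pow_le_pow_right (by omega) (show 2 * e ≤ 2 * d by omega))
  have hQr : ∀ r, r.Prime → r ∣ e → r + 1 ≤ Q := fun r hr h => by
    have := Nat.le_of_dvd (by omega) (hdiv r hr h)
    omega
  by_cases h56 : e = 5 ∧ Q = 6
  · obtain ⟨rfl, rfl⟩ := h56
    have : (6 - 1) * (5 ^ 2 * s) ≤ 375 := by have := h5 rfl; omega
    exact lt_of_le_of_lt (Nat.pow_le_pow_left this 3) (by norm_num)
  suffices key : (e ^ 2 * s) ^ 3 ≤ Q ^ (2 * e - 3) by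
    have h1 : (Q - 1) ^ 3 < Q ^ 3 := Nat.pow_lt_pow_left (by omega) (by norm_num)
    rw [mul_pow, show 2 * e = 3 + (2 * e - 3) by omega, pow_add]
    exact lt_of_le_of_lt (Nat.mul_le_mul_left _ key) (Nat.mul_lt_mul_of_pos_right h1 (pow_pos (by omega) _))
  have hgen : (e ^ 2 * s) ^ 3 ≤ e ^ 18 := by
    calc (e ^ 2 * s) ^ 3 ≤ (e ^ 2 * (e ^ 2) ^ 2) ^ 3 := Nat.pow_le_pow_left (Nat.mul_le_mul_left _ hs) 3
      _ = e ^ 18 := by ring
  have small : ∀ B b : ℕ, e ^ 2 * s ≤ B → B ^ 3 ≤ b ^ (2 * e - 3) → b ≤ Q →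
      (e ^ 2 * s) ^ 3 ≤ Q ^ (2 * e - 3) := fun B b h1 h2 h3 =>
    ((Nat.pow_le_pow_left h1 3).trans h2).trans (Nat.pow_le_pow_left h3 _)
  obtain ⟨t, ht⟩ := hodd
  by_cases he5 : e = 5
  · subst he5
    have := hQr 5 (by norm_num) dvd_rfl
    exact small 75 7 (by have := h5 rfl; omega) (by norm_num) (by omega)
  by_cases he7 : e = 7
  · subst he7
    exact small 441 8 (by have := h7 rfl; omega) (by norm_num) (hQr 7 (by norm_num) dvd_rfl)
  by_cases he9 : e = 9
  · subst he9
    exact small 405 4 (by have := h9 rfl; omega) (by norm_num) hQ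
  refine hgen.trans ?_
  by_cases he11 : e = 11
  · subst he11
    exact le_trans (by norm_num) (Nat.pow_le_pow_left (hQr 11 (by norm_num) dvd_rfl) _)
  by_cases he13 : e = 13
  · subst he13
    exact le_trans (by norm_num) (Nat.pow_le_pow_left (hQr 13 (by norm_num) dvd_rfl) _)
  by_cases he15 : e = 15
  · subst he15
    have h15 : 15 ∣ Q - 1 := (Nat.Coprime.mul_dvd_of_dvd_of_dvd (by norm_num)
      (hdiv 3 (by norm_num) (by norm_num)) (hdiv 5 (by norm_num) (by norm_num)) : 3 * 5 ∣ Q - 1)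
    have := Nat.le_of_dvd (by omega) h15
    exact le_trans (by norm_num) (Nat.pow_le_pow_left (show 16 ≤ Q by omega) _)
  have he17 : 17 ≤ e := by omega
  by_cases hbig : ∃ r, r.Prime ∧ r ∣ e ∧ r ≠ 3
  · obtain ⟨r, hr, hre, hr3⟩ := hbig
    have hr2 : r ≠ 2 := by
      rintro rfl
      omega
    have hr4 : r ≠ 4 := fun h => absurd (h ▸ hr) (by norm_num)
    have hr5 : 5 ≤ r := by have := hr.two_le; omega
    have := hQr r hr hre
    exact (pow18_le 6 (by norm_num) 17 le_rfl (by norm_num) he17).trans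
      (Nat.pow_le_pow_left (by omega) _)
  · push Not at hbig
    obtain ⟨k, hk⟩ : ∃ k, e = 3 ^ k :=
      ⟨_, Nat.eq_prime_pow_of_unique_prime_dvd (by omega) fun {q} hq hqe => hbig q hq hqe⟩
    have h27 : 27 ≤ e := by
      rcases k with _ | _ | _ | k
      · norm_num at hk; omega
      · norm_num at hk; omega
      · norm_num at hk; omega
      · rw [hk]
        calc 27 = 3 ^ 3 := by norm_num
          _ ≤ 3 ^ (k + 1 + 1 + 1) := Nat.pow_le_pow_right (by norm_num) (by omega)
    exact (pow18_le 4 le_rfl 27 (by norm_num) (by norm_num) h27).trans (Nat.pow_le_pow_left hQ _)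

end Cfsg.Agent.BC85.BaseTwo
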