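import Mathlib
import Cfsg.Agent.BC85.BaseTwo.HeisTools
import Cfsg.Agent.BC85.BaseTwo.Count

/-!
# The case of a symplectic section
-/

set_option autoImplicit false

namespace Cfsg.Agent.BC85.BaseTwo

open scoped commutatorElement

section

variable {H V K : Type} [Group H] [Finite H] [AddCommGroup V] [Finite V] [DistribMulAction H V]
  [FaithfulSMul H V] [Field K] [Finite K] [Module K V]
variable (U : Subgroup H) (ι : U →* Kˣ)

/-- The elements of the scalar subgroup other than one have no fixed vectors. -/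
theorem fix_scalar (hι : Function.Injective ι) (hιv : ∀ (u : U) (v : V), (u : H) • v = (ι u : K) • v)
    {u : H} (hu : u ∈ U) (hu1 : u ≠ 1) : fix V u = ⊥ := by
  rw [eq_bot_iff]
  intro v hv
  rw [AddSubgroup.mem_bot]
  by_contra hv0
  apply hu1
  have h1 : ((ι ⟨u, hu⟩ : K) - 1) • v = 0 := by
    rw [sub_smul, one_smul, ← hιv ⟨u, hu⟩ v, show u • v = v from hv, sub_self]
  have h2 : ι ⟨u, hu⟩ = 1 := Units.ext (sub_eq_zero.mp ((smul_eq_zero.mp h1).resolve_right hv0))
  exact congrArg Subtype.val (hι (h2.trans (map_one ι).symm))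

/-- Independence of representatives of the section. -/
theorem card_sec_le (hι : Function.Injective ι)
    (hιv : ∀ (u : U) (v : V), (u : H) • v = (ι u : K) • v)
    (hlin : ∀ g ∈ Subgroup.centralizer (U : Set H), ∀ (k : K) (v : V), g • k • v = k • g • v)
    [U.Normal] (N : Subgroup H) (hN : IsSec U N) (hV : ∃ v : V, v ≠ 0) :
    U.relIndex N ≤ Module.finrank K V ^ 2 := by
  classical
  haveI : Module.Finite K V := Module.Finite.of_finite
  set π := QuotientGroup.mk' U with hπ
  haveI : Fintype (N.map π) := Fintype.ofFinite _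
  have hex : ∀ x : N.map π, ∃ n, n ∈ N ∧ π n = x := fun x => Subgroup.mem_map.mp x.2
  choose n hn hnπ using hex
  let χ : N.map π → (N →* K) := fun x =>
    { toFun := fun y => (ι ⟨⁅(y : H), n x⁆, hN.comm y y.2 _ (hn x)⟩ : K)
      map_one' := by
        rw [show (⟨⁅((1 : N) : H), n x⁆, hN.comm _ (1 : N).2 _ (hn x)⟩ : U) = 1 from
          Subtype.ext (commutatorElement_one_left (n x)), map_one, Units.val_one]
      map_mul' := fun a b => by
        rw [← Units.val_mul, ← map_mul]
        congr 2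
        apply Subtype.ext
        show ⁅(a : H) * (b : H), n x⁆ = ⁅(a : H), n x⁆ * ⁅(b : H), n x⁆
        have hb := hN.comm b b.2 _ (hn x)
        have ha := hN.comm a a.2 _ (hn x)
        have e : ⁅(a : H) * (b : H), n x⁆ = (a : H) * ⁅(b : H), n x⁆ * (a : H)⁻¹ * ⁅(a : H), n x⁆ := by
          simp only [commutatorElement_def]; group
        rw [e, ← Subgroup.mem_centralizer_iff.mp (hN.cen a.2) _ hb, mul_inv_cancel_right]
        exact congrArg Subtype.val
          (hι (by rw [map_mul, map_mul, mul_comm]) : (⟨_, hb⟩ : U) * ⟨_, ha⟩ = ⟨_, ha⟩ * ⟨_, hb⟩) }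
  have hχ : Function.Injective χ := by
    intro x x' h
    apply Subtype.ext
    rw [← hnπ x, ← hnπ x']
    apply (QuotientGroup.eq_iff_div_mem).mpr
    have hmem : (n x)⁻¹ * n x' ∈ U := by
      refine hN.centre _ ((Subgroup.centralizer _).mul_mem (inv_mem (hN.cen (hn x))) (hN.cen (hn x')))
        fun y hy => ?_
      have h1 : (ι ⟨⁅y, n x⁆, hN.comm y hy _ (hn x)⟩ : K) = ι ⟨⁅y, n x'⁆, hN.comm y hy _ (hn x')⟩ :=
        DFunLike.congr_fun h (⟨y, hy⟩ : N)
      have h2 : ⁅y, n x⁆ = ⁅y, n x'⁆ := congrArg Subtype.val (hι (Units.ext h1))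
      simp only [commutatorElement_def] at h2
      have h3 : y * ((n x)⁻¹ * n x') * y⁻¹ = (n x)⁻¹ * n x' := by
        calc y * ((n x)⁻¹ * n x') * y⁻¹
            = (n x)⁻¹ * (y * n x * y⁻¹ * (n x)⁻¹)⁻¹ * (y * n x' * y⁻¹ * (n x')⁻¹) * n x' := by group
          _ = _ := by rw [h2]; group
      exact (mul_inv_eq_iff_eq_mul.mp h3).symm
    have h4 := U.inv_mem hmem
    rw [mul_inv_rev, inv_inv] at h4
    have h5 := (inferInstance : U.Normal).conj_mem _ h4 (n x')
    rw [div_eq_mul_inv]
    have e : n x' * ((n x')⁻¹ * n x) * (n x')⁻¹ = n x * (n x')⁻¹ := by group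
    rwa [e] at h5
  let L : N.map π → (V →ₗ[K] V) := fun x =>
    { toFun := fun v => n x • v
      map_add' := fun a b => smul_add _ a b
      map_smul' := fun k v => hlin _ (hN.cen (hn x)) k v }
  have hLI : LinearIndependent K L := by
    rw [Fintype.linearIndependent_iff]
    intro c hc x0
    obtain ⟨v, hv⟩ := hV
    have hz : ∀ x, c x • (n x • v) = 0 := by
      intro x
      refine (Module.forall_dual_apply_eq_zero_iff K (c x • (n x • v))).mp fun φ => ?_
      have hind : LinearIndependent K fun x => (χ x : N → K) := (linearIndependent_monoidHom N K).comp χ hχ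
      refine (Fintype.linearIndependent_iff.mp hind) (fun x => φ (c x • (n x • v))) ?_ x
      funext y
      have h1 : ∑ x, c x • (n x • ((y : H)⁻¹ • v)) = 0 := by
        simpa [L, LinearMap.sum_apply] using LinearMap.congr_fun hc ((y : H)⁻¹ • v)
      have h2 : ∑ x, (χ x y) • (c x • (n x • v)) = 0 := by
        have h3 := congrArg (fun w => (y : H) • w) h1
        simp only [Finset.smul_sum, smul_zero] at h3
        refine Eq.trans (Finset.sum_congr rfl fun x _ => ?_) h3
        rw [hlin _ (hN.cen y.2), smul_comm (χ x y) (c x)]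
        congr 1
        have h4 := hιv ⟨⁅(y : H), n x⁆, hN.comm y y.2 _ (hn x)⟩ (n x • v)
        show (ι ⟨⁅(y : H), n x⁆, hN.comm y y.2 _ (hn x)⟩ : K) • (n x • v) = _
        rw [← h4, ← mul_smul, ← mul_smul, ← mul_smul]
        show (⁅(y : H), n x⁆ * n x) • v = _
        congr 1
        simp only [commutatorElement_def]
        group
      have h5 := congrArg φ h2
      rw [map_sum, map_zero] at h5
      simp only [Finset.sum_apply, Pi.smul_apply, smul_eq_mul, Pi.zero_apply]
      refine Eq.trans (Finset.sum_congr rfl fun x _ => ?_) h5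
      rw [map_smul φ (χ x y), smul_eq_mul, mul_comm]
    exact (smul_eq_zero.mp (hz x0)).resolve_right fun h => hv ((smul_eq_zero_iff_eq (n x0)).mp h)
  have h := hLI.fintype_card_le_finrank
  rw [Module.finrank_linearMap, ← Nat.card_eq_fintype_card, ← Subgroup.relIndex_ker, hπ,
    QuotientGroup.ker_mk', ← pow_two] at h
  exact h

/-- Bounds for the fixed spaces outside and inside the centraliser. -/
theorem fix_bound [U.Normal] (hι : Function.Injective ι)
    (hιv : ∀ (u : U) (v : V), (u : H) • v = (ι u : K) • v)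
    (hlin : ∀ g ∈ Subgroup.centralizer (U : Set H), ∀ (k : K) (v : V), g • k • v = k • g • v)
    (hodd : Odd (Nat.card H)) (N : Subgroup H) (hN : IsSec U N) {g : H} (hg : g ≠ 1) :
    Nat.card (fix V g) ^ 2 ≤ Nat.card V ∨ (g ∈ Subgroup.centralizer (U : Set H) ∧ g ∉ N ∧
      (Nat.card (fix V g) ^ 2) ^ 3 ≤ Nat.card V ^ 4) := by
  classical
  have scalar : ∀ x y : H, x ∈ U → x ≠ 1 → y * g * y⁻¹ = x * g →
      Nat.card (fix V g) ^ 2 ≤ Nat.card V := by
    intro x y hx hx1 hy
    have h := fix_sq_le (V := V) hy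
    rwa [fix_scalar U ι hι hιv hx hx1, inf_bot_eq, AddSubgroup.card_bot, mul_one] at h
  by_cases hgC : g ∈ Subgroup.centralizer (U : Set H)
  swap
  · left
    obtain ⟨u, hu, hne⟩ : ∃ u ∈ U, u * g ≠ g * u := by
      simpa [Subgroup.mem_centralizer_iff] using hgC
    have e : ⁅u, g⁆ = u * (g * u⁻¹ * g⁻¹) := by simp only [commutatorElement_def]; group
    refine scalar ⁅u, g⁆ u ?_ (fun h => hne (commutatorElement_eq_one_iff_mul_comm.mp h)) ?_
    · rw [e]; exact U.mul_mem hu ((inferInstance : U.Normal).conj_mem _ (inv_mem hu) g)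
    · simp only [commutatorElement_def]; group
  by_cases hgU : g ∈ U
  · left
    rw [fix_scalar U ι hι hιv hgU hg, AddSubgroup.card_bot, one_pow]
    exact Nat.card_pos
  by_cases hgN : g ∈ N
  · left
    obtain ⟨y, hy, hne⟩ : ∃ y ∈ N, g * y ≠ y * g := by
      by_contra h
      push Not at h
      exact hgU (hN.centre g hgC h)
    refine scalar ⁅y, g⁆ y (hN.comm y hy g hgN)
      (fun h => hne (commutatorElement_eq_one_iff_mul_comm.mp h).symm) ?_
    simp only [commutatorElement_def]; group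
  refine Or.inr ⟨hgC, hgN, ?_⟩
  obtain ⟨y, hy, hne⟩ : ∃ y ∈ N, ⁅g, y⁆ ∉ U := by
    by_contra h
    push Not at h
    exact hgN (hN.faithful g hgC h)
  set x := ⁅y, g⁆ with hx
  have hxN : x ∈ N := by
    have e : x = y * (g * y⁻¹ * g⁻¹) := by rw [hx, commutatorElement_def]; group
    rw [e]; exact N.mul_mem hy (hN.normal.conj_mem _ (inv_mem hy) g)
  have hxU : x ∉ U := fun h => hne (by
    rw [← commutatorElement_inv]; exact U.inv_mem h)
  have hxC := hN.cen hxN
  obtain ⟨y', hy', hne'⟩ : ∃ y' ∈ N, x * y' ≠ y' * x := by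
    by_contra h
    push Not at h
    exact hxU (hN.centre x hxC h)
  set z : U := ⟨⁅x, y'⁆, hN.comm x hxN y' hy'⟩ with hz
  have hz1 : z ≠ 1 := fun h => hne' (commutatorElement_eq_one_iff_mul_comm.mp (congrArg Subtype.val h))
  have hz2 : z ^ 2 ≠ 1 := by
    intro h
    apply hz1
    have h3 : orderOf z ∣ 2 := orderOf_dvd_of_pow_eq_one h
    rcases (Nat.dvd_prime Nat.prime_two).mp h3 with h' | h'
    · exact orderOf_eq_one_iff.mp h'
    · have h4 : orderOf z ∣ Nat.card H := (orderOf_dvd_natCard z).trans (Subgroup.card_subgroup_dvd_card U)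
      exact absurd (Odd.of_dvd_nat hodd (h' ▸ h4)) (by decide)
  have hxy : ∀ v : V, x • y' • v = (ι z : K) • y' • x • v := by
    intro v
    rw [← hιv z, ← mul_smul, ← mul_smul, ← mul_smul]
    congr 1
    show x * y' = ⁅x, y'⁆ * y' * x
    simp only [commutatorElement_def]; group
  have hxyy : ∀ v : V, x • y' • y' • v = (ι z : K) ^ 2 • y' • y' • x • v := by
    intro v
    rw [hxy (y' • v), hxy v, hlin y' (hN.cen hy'), smul_smul, pow_two]
  have hcube : Nat.card (fix V x) ^ 3 ≤ Nat.card V := by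
    refine fix_cube_le (ι z : K) (Units.ne_zero _) ?_ ?_ (hlin x hxC) hxy hxyy
    · intro h
      exact hz1 (hι ((Units.ext h).trans (map_one ι).symm))
    · intro h
      refine hz2 (hι (Units.ext ?_))
      rw [map_pow, Units.val_pow_eq_pow_val, h, map_one, Units.val_one]
  have hsq := fix_sq_le (V := V) (g := g) (x := x) (y := y) (by
    rw [hx]; simp only [commutatorElement_def]; group)
  have h1 : Nat.card (fix V g ⊓ fix V x : AddSubgroup V) ≤ Nat.card (fix V x) :=
    Nat.le_of_dvd Nat.card_pos (AddSubgroup.card_dvd_of_le inf_le_right)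
  have h2 := hsq.trans (Nat.mul_le_mul_left _ h1)
  calc (Nat.card (fix V g) ^ 2) ^ 3 ≤ (Nat.card V * Nat.card (fix V x)) ^ 3 := Nat.pow_le_pow_left h2 3
    _ = Nat.card V ^ 3 * Nat.card (fix V x) ^ 3 := mul_pow _ _ _
    _ ≤ Nat.card V ^ 3 * Nat.card V := Nat.mul_le_mul_left _ hcube
    _ = Nat.card V ^ 4 := by ring

/-- The theorem when the centraliser of the scalar subgroup is bigger. -/
theorem reg_heis [Group.IsSolvable H] {n : ℕ} (hlinn : Lin n) (hn : Nat.card V ≤ n + 1)
    (hodd : Odd (Nat.card H)) (hV : ∃ v : V, v ≠ 0) [U.Normal]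
    (hmax : ∀ A : Subgroup H, A.Normal → U ≤ A → (∀ a ∈ A, ∀ b ∈ A, a * b = b * a) → A = U)
    (hι : Function.Injective ι) (hιv : ∀ (u : U) (v : V), (u : H) • v = (ι u : K) • v)
    (hlin : ∀ g ∈ Subgroup.centralizer (U : Set H), ∀ (k : K) (v : V), g • k • v = k • g • v)
    (hCU : Subgroup.centralizer (U : Set H) ≠ U) : ∃ p : V × V, Reg H V p := by
  classical
  haveI : Module.Finite K V := Module.Finite.of_finite
  haveI : Fintype H := Fintype.ofFinite H
  have hab : ∀ a ∈ U, ∀ b ∈ U, a * b = b * a := fun a ha b hb => congrArg Subtype.val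
    (hι (by rw [map_mul, map_mul, mul_comm]) : (⟨a, ha⟩ : U) * ⟨b, hb⟩ = ⟨b, hb⟩ * ⟨a, ha⟩)
  obtain ⟨N, hN⟩ := exists_sec U hab hmax ι hι hCU
  haveI hNn : N.Normal := hN.normal
  set C := Subgroup.centralizer (U : Set H) with hC
  haveI : C.Normal := inferInstance
  obtain ⟨e, he⟩ := hN.square
  set d := Module.finrank K V with hd
  set Q := Nat.card K with hQ
  have hVQ : Nat.card V = Q ^ d := Module.natCard_eq_pow_finrank
  set π := QuotientGroup.mk' U with hπ
  have hπker : π.ker = U := QuotientGroup.ker_mk' U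
  have hπmem : ∀ a b : H, π a * π b = π b * π a ↔ ⁅a, b⁆ ∈ U := fun a b => by
    rw [← commutatorElement_eq_one_iff_mul_comm, ← map_commutatorElement, ← MonoidHom.mem_ker, hπker]
  set Xs : Subgroup (H ⧸ U) := N.map π with hXs
  haveI : Xs.Normal := hNn.map π (QuotientGroup.mk'_surjective U)
  have hXcard : Nat.card Xs = e ^ 2 := by
    rw [hXs, ← Subgroup.relIndex_ker, hπker, he]
  have hd2 : e ^ 2 ≤ d ^ 2 := he ▸ card_sec_le U ι hι hιv hlin N hN hV
  have hed : e ≤ d := (Nat.pow_le_pow_iff_left two_ne_zero).mp hd2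
  -- the parameters
  have hedvd : e ∣ Nat.card H :=
    (dvd_pow_self e two_ne_zero).trans (hXcard ▸ (Subgroup.card_subgroup_dvd_card Xs).trans
      (Subgroup.card_quotient_dvd_card U))
  have heodd : Odd e := Odd.of_dvd_nat hodd hedvd
  have he3 : 3 ≤ e := by
    have h1 : e ≠ 1 := by
      intro h
      rw [h, one_pow, Subgroup.relIndex_eq_one] at he
      exact hN.ne (le_antisymm he hN.le)
    obtain ⟨t, ht⟩ := heodd
    omega
  have hKu : Nat.card Kˣ = Q - 1 := Nat.card_units K
  have hrQ : ∀ r, r.Prime → r ∣ e → r ∣ Q - 1 := by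
    intro r hr hre
    haveI : Fact r.Prime := ⟨hr⟩
    obtain ⟨ξ, hξ⟩ := exists_prime_orderOf_dvd_card' (G := Xs) r
      (hXcard ▸ hre.trans (dvd_pow_self e two_ne_zero))
    obtain ⟨m, hm, hmξ⟩ := Subgroup.mem_map.mp ξ.2
    have hmU : m ∉ U := fun h => hr.ne_one (by
      have : ξ = 1 := Subtype.ext (hmξ.symm.trans ((QuotientGroup.eq_one_iff m).mpr h))
      rw [this, orderOf_one] at hξ
      exact hξ.symm)
    obtain ⟨y, hy, hne⟩ : ∃ y ∈ N, m * y ≠ y * m := by
      by_contra h
      push Not at h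
      exact hmU (hN.centre m (hN.cen hm) h)
    set z : U := ⟨⁅y, m⁆, hN.comm y hy m hm⟩ with hz
    have hmr : m ^ r ∈ U := by
      rw [← QuotientGroup.eq_one_iff]
      show π (m ^ r) = 1
      rw [map_pow, hmξ, ← SubgroupClass.coe_pow, ← hξ, pow_orderOf_eq_one, OneMemClass.coe_one]
    have hzr : z ^ r = 1 := by
      apply Subtype.ext
      rw [SubgroupClass.coe_pow, OneMemClass.coe_one]
      show ⁅y, m⁆ ^ r = 1
      have h1 : (⁅y, m⁆ * m) ^ r = ⁅y, m⁆ ^ r * m ^ r :=
        Commute.mul_pow (Subgroup.mem_centralizer_iff.mp (hN.cen hm) _ z.2) r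
      have h2 : (y * m * y⁻¹) ^ r = m ^ r := by
        rw [conj_pow, ← Subgroup.mem_centralizer_iff.mp (hN.cen hy) _ hmr, mul_inv_cancel_right]
      rw [show ⁅y, m⁆ * m = y * m * y⁻¹ by simp only [commutatorElement_def]; group, h2] at h1
      exact (mul_eq_right.mp h1.symm)
    have hz1 : ι z ≠ 1 := fun h => hne (commutatorElement_eq_one_iff_mul_comm.mp
      (congrArg Subtype.val (hι (h.trans (map_one ι).symm)))).symm
    have h3 : orderOf (ι z) = r := orderOf_eq_prime (by rw [← map_pow, hzr, map_one]) hz1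
    exact hKu ▸ h3 ▸ orderOf_dvd_natCard (ι z)
  have hQ1 : 1 < Q := Finite.one_lt_card
  have hQ4 : 4 ≤ Q := by
    obtain ⟨r, hr, hre⟩ := Nat.exists_prime_and_dvd (show e ≠ 1 by omega)
    have h1 := Nat.le_of_dvd (by omega) (hrQ r hr hre)
    have h2 : r ≠ 2 := by
      rintro rfl
      obtain ⟨t, ht⟩ := heodd
      omega
    have := hr.two_le
    omega
  have hxV : e ^ 2 < Nat.card V := by
    rw [hVQ]
    calc e ^ 2 ≤ d ^ 2 := hd2
      _ < (2 ^ d) ^ 2 := Nat.pow_lt_pow_left Nat.lt_two_pow_self two_ne_zero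
      _ = 4 ^ d := by rw [← pow_mul, mul_comm, pow_mul]; norm_num
      _ ≤ Q ^ d := Nat.pow_le_pow_left hQ4 d
  -- the action on the section
  letI : CommGroup Xs :=
    { (inferInstance : Group Xs) with
      mul_comm := fun a b => by
        obtain ⟨a', ha, ha'⟩ := Subgroup.mem_map.mp a.2
        obtain ⟨b', hb, hb'⟩ := Subgroup.mem_map.mp b.2
        apply Subtype.ext
        show (a : H ⧸ U) * b = b * a
        rw [← ha', ← hb']
        exact (hπmem a' b').mpr (hN.comm a' ha b' hb) }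
  let act : DistribMulAction H (Additive Xs) :=
    { smul := fun h m => Additive.ofMul (MulAut.conjNormal (π h) (Additive.toMul m))
      one_smul := fun m => by
        show Additive.ofMul (MulAut.conjNormal (π 1) _) = m
        rw [map_one π, map_one]; rfl
      mul_smul := fun a b m => by
        show Additive.ofMul (MulAut.conjNormal (π (a * b)) _) = _
        rw [map_mul π, map_mul]; rfl
      smul_zero := fun s => by
        show Additive.ofMul (MulAut.conjNormal (π s) 1) = 0
        rw [map_one]; rfl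
      smul_add := fun s a b => by
        show Additive.ofMul (MulAut.conjNormal (π s) (Additive.toMul a * Additive.toMul b)) = _
        rw [map_mul]; rfl }
  letI := act
  have hkerX : ker H (Additive Xs) ⊓ C = N := by
    have key : ∀ g : H, g ∈ ker H (Additive Xs) ↔ ∀ y ∈ N, ⁅g, y⁆ ∈ U := by
      intro g
      rw [mem_ker]
      constructor
      · intro h y hy
        have h1 := congrArg (fun w : Additive Xs => ((Additive.toMul w : Xs) : H ⧸ U))
          (h (Additive.ofMul ⟨π y, Subgroup.mem_map_of_mem π hy⟩))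
        have h2 : π g * π y * (π g)⁻¹ = π y := h1
        exact (hπmem g y).mp (mul_inv_eq_iff_eq_mul.mp h2)
      · intro h v
        apply Additive.toMul.injective
        apply Subtype.ext
        obtain ⟨y, hy, hy'⟩ := Subgroup.mem_map.mp (Additive.toMul v).2
        show π g * ((Additive.toMul v : Xs) : H ⧸ U) * (π g)⁻¹ = ((Additive.toMul v : Xs) : H ⧸ U)
        rw [← hy', mul_inv_eq_iff_eq_mul]
        exact (hπmem g y).mpr (h y hy)
    exact le_antisymm (fun g hg => hN.faithful g hg.2 ((key g).mp hg.1))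
      (fun g hg => ⟨(key g).mpr fun y hy => hN.comm g hg y hy, hN.cen hg⟩)
  have hcrX : CR H (Additive Xs) := by
    intro W hW
    let Wp : Subgroup H := ((W.toSubgroup').map Xs.subtype).comap π
    have hUWp : U ≤ Wp := fun u hu => by
      rw [Subgroup.mem_comap, show π u = 1 from (QuotientGroup.eq_one_iff u).mpr hu]
      exact Subgroup.one_mem _
    have hWpN : Wp ≤ N := fun w hw => by
      obtain ⟨a, -, ha⟩ := Subgroup.mem_map.mp (Subgroup.mem_comap.mp hw)
      obtain ⟨b, hb, hb'⟩ := Subgroup.mem_map.mp a.2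
      have h1 : π b = π w := hb'.trans ha
      have h2 := hN.le ((QuotientGroup.eq (s := U)).mp h1)
      have h3 := N.mul_mem hb h2
      rwa [mul_inv_cancel_left] at h3
    have hWpn : Wp.Normal := by
      refine ⟨fun w hw h => ?_⟩
      obtain ⟨a, ha, ha'⟩ := Subgroup.mem_map.mp (Subgroup.mem_comap.mp hw)
      refine Subgroup.mem_comap.mpr (Subgroup.mem_map.mpr
        ⟨MulAut.conjNormal (π h) a, hW h (Additive.ofMul a) ha, ?_⟩)
      rw [Subgroup.subtype_apply, MulAut.conjNormal_apply, map_mul, map_mul, map_inv]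
      rw [Subgroup.subtype_apply] at ha'
      rw [ha']
    obtain ⟨W', hW'n, hUW', hW'N, hinf, hsup⟩ := hN.compl Wp hWpn hUWp hWpN
    let Wg : Subgroup Xs := (W'.map π).subgroupOf Xs
    refine ⟨Wg.toAddSubgroup, fun h v hv => ?_, ?_, ?_⟩
    · obtain ⟨w, hw, hw'⟩ := Subgroup.mem_map.mp (Subgroup.mem_subgroupOf.mp hv)
      refine Subgroup.mem_subgroupOf.mpr (Subgroup.mem_map.mpr ⟨h * w * h⁻¹, hW'n.conj_mem w hw h, ?_⟩)
      show π (h * w * h⁻¹) = π h * ((Additive.toMul v : Xs) : H ⧸ U) * (π h)⁻¹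
      rw [map_mul, map_mul, map_inv, hw']
      rfl
    · refine le_bot_iff.mp fun v hv => ?_
      obtain ⟨w, hw, hw'⟩ := Subgroup.mem_map.mp (Subgroup.mem_subgroupOf.mp hv.2)
      have h1 : w ∈ Wp :=
        Subgroup.mem_comap.mpr (Subgroup.mem_map.mpr ⟨Additive.toMul v, hv.1, hw'.symm⟩)
      have h2 : w ∈ U := hinf ▸ ⟨h1, hw⟩
      rw [AddSubgroup.mem_bot]
      apply Additive.toMul.injective
      apply Subtype.ext
      exact hw'.symm.trans ((QuotientGroup.eq_one_iff w).mpr h2)
    · refine eq_top_iff.mpr fun v _ => ?_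
      obtain ⟨m, hm, hm'⟩ := Subgroup.mem_map.mp (Additive.toMul v).2
      haveI := hW'n
      have hm2 : m ∈ Wp ⊔ W' := hsup.symm ▸ hm
      obtain ⟨a, ha, b, hb, rfl⟩ := Subgroup.mem_sup_of_normal_right.mp hm2
      obtain ⟨a', ha', ha''⟩ := Subgroup.mem_map.mp (Subgroup.mem_comap.mp ha)
      refine AddSubgroup.mem_sup.mpr ⟨Additive.ofMul a', ha',
        Additive.ofMul ⟨π b, Subgroup.mem_map_of_mem π (hW'N hb)⟩,
        (show (⟨π b, Subgroup.mem_map_of_mem π (hW'N hb)⟩ : Xs) ∈ Wg from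
          Subgroup.mem_subgroupOf.mpr (Subgroup.mem_map_of_mem π hb)), ?_⟩
      apply Additive.toMul.injective
      apply Subtype.ext
      rw [← hm', map_mul, ← ha'']
      rfl
  obtain ⟨pX, hpX⟩ := hlinn (Additive Xs) H
    (by rw [show Nat.card (Additive Xs) = e ^ 2 from hXcard]; omega) hodd hcrX
  set s := N.relIndex C with hs
  have hsdvd : s ∣ (ker H (Additive Xs)).index := by
    rw [hs, ← hkerX, Subgroup.inf_relIndex_right]
    exact Subgroup.relIndex_dvd_index_of_normal _ _
  have hsle : s ≤ (e ^ 2) ^ 2 := by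
    refine (Nat.le_of_dvd (Nat.pos_of_ne_zero Subgroup.index_ne_zero_of_finite) hsdvd).trans ?_
    have h1 := index_ker_le hpX
    rwa [show Nat.card (Additive Xs) = e ^ 2 from hXcard] at h1
  have hsodd : Odd s := by
    refine Odd.of_dvd_nat hodd ?_
    exact (Subgroup.relIndex_dvd_card N C).trans (Subgroup.card_subgroup_dvd_card C)
  -- the small cases
  let C' : Subgroup (H ⧸ ker H (Additive Xs)) := C.map (QuotientGroup.mk' (ker H (Additive Xs)))
  have hC'card : Nat.card C' = s := by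
    rw [hs, ← hkerX, Subgroup.inf_relIndex_right, ← Subgroup.relIndex_ker, QuotientGroup.ker_mk']
  have hgl : ∀ r m : ℕ, r.Prime → e ^ 2 = r ^ m →
      (s ∣ ∏ i : Fin m, (r ^ m - r ^ (i : ℕ))) ∧
        ∀ R : Subgroup C', R.Normal → IsPGroup r R → R = ⊥ := by
    intro r m hr hem
    haveI : Fact r.Prime := ⟨hr⟩
    have hcard : Nat.card (Additive Xs) = r ^ m := hXcard.trans hem
    exact ⟨hsdvd.trans (gl_dvd r m (smul_prime_eq_zero hcrX hcard) hcard),
      fun R hR hp => no_normal_pgroup hcrX hcard C R hR hp⟩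
  have hodd_part : ∀ a b : ℕ, s ∣ 2 ^ a * b → s ∣ b := fun a b h =>
    (Nat.Coprime.pow_right a (Nat.coprime_two_right.mpr hsodd)).dvd_of_dvd_mul_left h
  have h3 : e = 3 → s ≤ 1 := by
    intro h
    subst h
    obtain ⟨hdvd, hno⟩ := hgl 3 2 Nat.prime_three rfl
    have h1 : s ∣ 3 := hodd_part 4 3 (by simpa [Fin.prod_univ_two] using hdvd)
    rcases (Nat.dvd_prime Nat.prime_three).mp h1 with h2 | h2
    · omega
    · exfalso
      haveI : Fact (Nat.Prime 3) := ⟨Nat.prime_three⟩
      have h4 := hno ⊤ inferInstance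
        (IsPGroup.of_card (n := 1) (by rw [Subgroup.card_top, hC'card, h2, pow_one]))
      have h5 : Nat.card C' = 1 := by rw [← Subgroup.card_top (G := C'), h4, Subgroup.card_bot]
      omega
  have h5 : e = 5 → s ≤ 3 := by
    intro h
    subst h
    obtain ⟨hdvd, hno⟩ := hgl 5 2 (by norm_num) rfl
    have h1 : s ∣ 5 ^ 1 * 3 := hodd_part 5 _ (by simpa [Fin.prod_univ_two] using hdvd)
    haveI : Fact (Nat.Prime 5) := ⟨by norm_num⟩
    haveI : Fact (Nat.Prime 3) := ⟨Nat.prime_three⟩
    have h2 := tiny (S := C') 5 3 1 (by norm_num) (hC'card.symm ▸ h1) hno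
    rw [hC'card] at h2
    exact Nat.le_of_dvd (by norm_num) (hodd_part 1 3 (by simpa using h2))
  have h7 : e = 7 → s ≤ 9 := by
    intro h
    subst h
    obtain ⟨hdvd, hno⟩ := hgl 7 2 (by norm_num) rfl
    have h1 : s ∣ 63 := hodd_part 5 _ (by simpa [Fin.prod_univ_two] using hdvd)
    have h2 := dvd_nine (S := C') (hC'card.symm ▸ h1) hno
    rw [hC'card] at h2
    exact Nat.le_of_dvd (by norm_num) h2
  have h9 : e = 9 → s ≤ 5 := by
    intro h
    subst h
    obtain ⟨hdvd, hno⟩ := hgl 3 4 Nat.prime_three (by norm_num)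
    have h1 : s ∣ 13 * (3 ^ 6 * 5) := hodd_part 9 _ (by simpa [Fin.prod_univ_four] using hdvd)
    have h13 : ¬ 13 ∣ s := by
      intro h
      haveI : Fact (Nat.Prime 13) := ⟨by norm_num⟩
      rw [← hC'card] at h
      obtain ⟨ξ, hξ⟩ := exists_prime_orderOf_dvd_card' (G := C') 13 h
      obtain ⟨g, hg, hgξ⟩ := Subgroup.mem_map.mp ξ.2
      have hgN : g ^ 13 ∈ N := by
        rw [← hkerX]
        refine ⟨(QuotientGroup.eq_one_iff (g ^ 13)).mp ?_, C.pow_mem hg 13⟩
        show QuotientGroup.mk' (ker H (Additive Xs)) (g ^ 13) = 1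
        rw [map_pow, hgξ, ← SubgroupClass.coe_pow, ← hξ, pow_orderOf_eq_one, OneMemClass.coe_one]
      have h2 := thirteen U ι hι N hN (by rw [he]; norm_num) g hg (fun y hy => hN.comm _ hgN y hy)
      have h3 : g ∈ N := hN.faithful g hg h2
      rw [← hkerX] at h3
      have h4 : ξ = 1 := Subtype.ext (hgξ.symm.trans ((QuotientGroup.eq_one_iff g).mpr h3.1))
      rw [h4, orderOf_one] at hξ
      omega
    have h2 : s ∣ 3 ^ 6 * 5 :=
      ((Nat.Prime.coprime_iff_not_dvd (by norm_num)).mpr h13).symm.dvd_of_dvd_mul_left h1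
    haveI : Fact (Nat.Prime 3) := ⟨Nat.prime_three⟩
    haveI : Fact (Nat.Prime 5) := ⟨by norm_num⟩
    have h3 := tiny (S := C') 3 5 6 (by norm_num) (hC'card.symm ▸ h2) hno
    rw [hC'card] at h3
    exact Nat.le_of_dvd (by norm_num) (hodd_part 2 5 (by simpa using h3))
  -- orders
  have hUle : Nat.card U ≤ Q - 1 := hKu ▸ Nat.card_le_card_of_injective ι hι
  have hCidx : C.index ≤ Nat.card U := by
    haveI : IsCyclic U := isCyclic_of_subgroup_isDomain ((Units.coeHom K).comp ι)
      (fun a b hh => hι (Units.ext hh))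
    obtain ⟨u0, hu0⟩ := IsCyclic.exists_generator (α := U)
    refine Nat.card_le_card_of_injective (fun q : H ⧸ C =>
      (⟨q.out * (u0 : H) * q.out⁻¹, (inferInstance : U.Normal).conj_mem _ u0.2 _⟩ : U)) fun q q' hh => ?_
    have h1 : q.out * (u0 : H) * q.out⁻¹ = q'.out * (u0 : H) * q'.out⁻¹ := congrArg Subtype.val hh
    rw [← QuotientGroup.out_eq' q, ← QuotientGroup.out_eq' q', QuotientGroup.eq]
    refine Subgroup.mem_centralizer_iff.mpr ?_
    intro u hu
    obtain ⟨i, hi⟩ := Subgroup.mem_zpowers_iff.mp (hu0 ⟨u, hu⟩)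
    have h2 : Commute (q.out⁻¹ * q'.out) (u0 : H) := by
      show q.out⁻¹ * q'.out * (u0 : H) = (u0 : H) * (q.out⁻¹ * q'.out)
      calc q.out⁻¹ * q'.out * (u0 : H)
          = q.out⁻¹ * (q'.out * (u0 : H) * q'.out⁻¹) * q'.out := by group
        _ = q.out⁻¹ * (q.out * (u0 : H) * q.out⁻¹) * q'.out := by rw [h1]
        _ = _ := by group
    have h3 := h2.zpow_right i
    have h4 : (u0 : H) ^ i = u := by rw [← SubgroupClass.coe_zpow, hi]
    rw [← h4]
    exact h3.eq.symm
  have hCcard : Nat.card C = Nat.card U * (e ^ 2 * s) := by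
    have h1 := Subgroup.relIndex_mul_relIndex U N C hN.le hN.cen
    have h2 : Nat.card U * U.relIndex C = Nat.card C := by
      rw [← Subgroup.relIndex_bot_left U, ← Subgroup.relIndex_bot_left C]
      exact Subgroup.relIndex_mul_relIndex ⊥ U C bot_le (hN.le.trans hN.cen)
    rw [← h2, ← h1, he, hs]
  have hHcard : Nat.card H ≤ (Q - 1) * ((Q - 1) * (e ^ 2 * s)) := by
    rw [← Subgroup.card_mul_index C, hCcard, mul_comm]
    exact Nat.mul_le_mul (hCidx.trans hUle) (Nat.mul_le_mul_right _ hUle)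
  have hd3 : 3 ≤ d := he3.trans hed
  have hQd : Q ^ 3 ≤ Q ^ d := Nat.pow_le_pow_right (by omega) hd3
  apply exists_reg_of_sum hodd
  have hfb := fun g (hg : g ∈ Finset.univ.erase (1 : H)) =>
    fix_bound U ι hι hιv hlin hodd N hN (Finset.ne_of_mem_erase hg)
  rcases count_case heodd he3 hed hQ4 hrQ hsle h3 h5 h7 h9 with ⟨rfl, hs1⟩ | hcount
  · have hCN : C ≤ N := by
      have : s ≠ 0 := Subgroup.index_ne_zero_of_finite
      exact Subgroup.relIndex_eq_one.mp (by omega : s = 1)
    have h1 : ∀ g ∈ Finset.univ.erase (1 : H), Nat.card (fix V g) ^ 2 ≤ Nat.card V := fun g hg => by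
      rcases hfb g hg with h | ⟨hgC, hgN, -⟩
      · exact h
      · exact absurd (hCN hgC) hgN
    have h2 := Finset.sum_le_sum h1
    rw [Finset.sum_const, smul_eq_mul, Finset.card_erase_of_mem (Finset.mem_univ _), Finset.card_univ,
      ← Nat.card_eq_fintype_card] at h2
    refine lt_of_le_of_lt h2 ?_
    rw [hVQ, pow_two, ← mul_assoc]
    refine Nat.mul_lt_mul_of_pos_right ?_ (pow_pos (by omega) d)
    have h4 : (Q - 1) * ((Q - 1) * (3 ^ 2 * s)) ≤ 9 * (Q - 1) ^ 2 := by
      calc (Q - 1) * ((Q - 1) * (3 ^ 2 * s)) ≤ (Q - 1) * ((Q - 1) * (3 ^ 2 * 1)) :=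
            Nat.mul_le_mul_left _ (Nat.mul_le_mul_left _ (Nat.mul_le_mul_left _ hs1))
        _ = _ := by ring
    have h5 : 9 * (Q - 1) ^ 2 < 2 * Q ^ 3 := by
      rcases Nat.lt_or_ge Q 5 with hlt | hge
      · rw [show Q = 4 by omega]; norm_num
      · have h6 : (Q - 1) ^ 2 < Q ^ 2 := Nat.pow_lt_pow_left (by omega) two_ne_zero
        nlinarith
    omega
  · let T : ℕ := ((Finset.univ.filter fun g : H => g ∈ C ∧ g ∉ N ∧
      (Nat.card (fix V g) ^ 2) ^ 3 ≤ Nat.card V ^ 4).sup fun g => Nat.card (fix V g) ^ 2)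
    have hT : T ^ 3 ≤ Nat.card V ^ 4 := by
      rcases (Finset.univ.filter fun g : H => g ∈ C ∧ g ∉ N ∧
        (Nat.card (fix V g) ^ 2) ^ 3 ≤ Nat.card V ^ 4).eq_empty_or_nonempty with hE | hE
      · simp [T, hE]
      · obtain ⟨g, hg, hgT⟩ := Finset.exists_mem_eq_sup _ hE fun g => Nat.card (fix V g) ^ 2
        rw [show T = _ from hgT]
        exact (Finset.mem_filter.mp hg).2.2.2
    have h1 : ∀ g ∈ Finset.univ.erase (1 : H),
        Nat.card (fix V g) ^ 2 ≤ Nat.card V + (if g ∈ C then T else 0) := fun g hg => by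
      rcases hfb g hg with h | h
      · omega
      · rw [if_pos h.1]
        exact le_add_left (Finset.le_sup (f := fun g => Nat.card (fix V g) ^ 2)
          (Finset.mem_filter.mpr ⟨Finset.mem_univ g, h⟩))
    have h2 := (Finset.sum_le_sum h1).trans (Finset.sum_le_sum_of_subset (Finset.subset_univ _))
    rw [Finset.sum_add_distrib, Finset.sum_const, smul_eq_mul, Finset.card_univ,
      ← Nat.card_eq_fintype_card, ← Finset.sum_filter, Finset.sum_const, smul_eq_mul,
      ← Fintype.card_subtype, ← Nat.card_eq_fintype_card] at h2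
    refine lt_of_le_of_lt h2 ?_
    have hA : Nat.card C * T < Nat.card V ^ 2 := by
      refine lt_of_pow_lt_pow_left₀ 3 (Nat.zero_le _) ?_
      rw [mul_pow]
      calc Nat.card C ^ 3 * T ^ 3 ≤ ((Q - 1) * (e ^ 2 * s)) ^ 3 * Nat.card V ^ 4 :=
            Nat.mul_le_mul (Nat.pow_le_pow_left (hCcard ▸ Nat.mul_le_mul_right _ hUle) 3) hT
        _ < Q ^ (2 * d) * Nat.card V ^ 4 :=
            Nat.mul_lt_mul_of_pos_right hcount (pow_pos Nat.card_pos 4)
        _ = (Nat.card V ^ 2) ^ 3 := by rw [hVQ]; ring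
    have hB : Nat.card H * Nat.card V ≤ Nat.card V ^ 2 := by
      rw [pow_two]
      refine Nat.mul_le_mul_right _ ?_
      rw [hVQ]
      refine le_of_pow_le_pow_left₀ three_ne_zero (Nat.zero_le _) ?_
      calc Nat.card H ^ 3 ≤ ((Q - 1) * ((Q - 1) * (e ^ 2 * s))) ^ 3 := Nat.pow_le_pow_left hHcard 3
        _ = (Q - 1) ^ 3 * ((Q - 1) * (e ^ 2 * s)) ^ 3 := mul_pow _ _ _
        _ ≤ Q ^ d * Q ^ (2 * d) :=
            Nat.mul_le_mul ((Nat.pow_le_pow_left (by omega) 3).trans hQd) hcount.le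
        _ = (Q ^ d) ^ 3 := by ring
    change Nat.card H * Nat.card V + Nat.card C * T < _
    omega

end

end Cfsg.Agent.BC85.BaseTwo
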