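import Mathlib
import Cfsg.Agent.BC85.BaseTwo.Field

/-!
# Two vectors with trivial common stabiliser for groups of odd order
-/

set_option autoImplicit false

namespace Cfsg.Agent.BC85.BaseTwo

/-- Every completely reducible module of an odd order group has a regular pair. -/
theorem lin_all (FT : SolvOdd) : ∀ n, Lin n := by
  intro n
  induction n with
  | zero =>
    intro V _ _ H _ _ _ hn _ _
    exact absurd hn (Nat.not_le.mpr Nat.card_pos)
  | succ n ih =>
    refine lin_succ ih ?_
    intro V _ _ H _ _ _ hn hodd hirr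
    let φ : H ⧸ ker H V →* AddMonoid.End V :=
      QuotientGroup.lift _ (DistribMulAction.toAddMonoidEnd H V) fun h hh => by
        rw [MonoidHom.mem_ker]
        exact AddMonoidHom.ext fun v => mem_ker.mp hh v
    letI : DistribMulAction (H ⧸ ker H V) V := DistribMulAction.compHom V φ
    have hsmul : ∀ (h : H) (v : V), (QuotientGroup.mk' (ker H V) h) • v = h • v := fun _ _ => rfl
    haveI : FaithfulSMul (H ⧸ ker H V) V := ⟨fun {a b} hab => by
      obtain ⟨x, rfl⟩ := QuotientGroup.mk'_surjective _ a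
      obtain ⟨y, rfl⟩ := QuotientGroup.mk'_surjective _ b
      apply (QuotientGroup.eq (s := ker H V)).mpr
      rw [mem_ker]
      intro v
      have h1 : x • v = y • v := hab v
      rw [mul_smul, ← h1, inv_smul_smul]⟩
    have hirr' : Irr (H ⧸ ker H V) V := by
      refine ⟨hirr.1, fun U hU => hirr.2 U fun h v hv => ?_⟩
      rw [← hsmul]
      exact hU _ v hv
    obtain ⟨p, hp⟩ := reg_irr FT ih hn
      (Odd.of_dvd_nat hodd (Subgroup.card_quotient_dvd_card (ker H V))) hirr'
    refine ⟨p, fun h h1 h2 v => ?_⟩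
    rw [← hsmul]
    exact hp (QuotientGroup.mk' _ h) h1 h2 v

universe u v

/-- The theorem in every universe. -/
theorem exists_pair (FT : SolvOdd) {A : Type u} {V : Type v} [Group A] [Finite A] [AddCommGroup V]
    [Finite V] [DistribMulAction A V] [FaithfulSMul A V] (hA : Odd (Nat.card A))
    (hcr : ∀ U : AddSubgroup V, (∀ a : A, ∀ v ∈ U, a • v ∈ U) →
      ∃ W : AddSubgroup V, (∀ a : A, ∀ w ∈ W, a • w ∈ W) ∧ U ⊓ W = ⊥ ∧ U ⊔ W = ⊤) :
    ∃ v w : V, ∀ a : A, a • v = v → a • w = w → a = 1 := by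
  let eA : Shrink.{0} A ≃* A := Shrink.mulEquiv
  let eV : Shrink.{0} V ≃+ V := Shrink.addEquiv
  haveI : Finite (Shrink.{0} A) := Finite.of_equiv A eA.symm.toEquiv
  haveI : Finite (Shrink.{0} V) := Finite.of_equiv V eV.symm.toEquiv
  letI : DistribMulAction (Shrink.{0} A) (Shrink.{0} V) :=
    { smul := fun a x => eV.symm (eA a • eV x)
      one_smul := fun x => by
        show eV.symm (eA 1 • eV x) = x
        rw [map_one, one_smul, eV.symm_apply_apply]
      mul_smul := fun a b x => by
        show eV.symm (eA (a * b) • eV x) = eV.symm (eA a • eV (eV.symm (eA b • eV x)))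
        rw [map_mul, mul_smul, eV.apply_symm_apply]
      smul_zero := fun a => by
        show eV.symm (eA a • eV 0) = 0
        rw [map_zero, smul_zero, map_zero]
      smul_add := fun a x y => by
        show eV.symm (eA a • eV (x + y)) = eV.symm (eA a • eV x) + eV.symm (eA a • eV y)
        rw [map_add, smul_add, map_add] }
  have hodd : Odd (Nat.card (Shrink.{0} A)) := by rw [Nat.card_congr eA.toEquiv]; exact hA
  have hcr' : CR (Shrink.{0} A) (Shrink.{0} V) := by
    intro U hU
    obtain ⟨W, hW, h1, h2⟩ := hcr (U.map eV.toAddMonoidHom) (by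
      intro a v hv
      obtain ⟨x, hx, rfl⟩ := AddSubgroup.mem_map.mp hv
      refine AddSubgroup.mem_map.mpr ⟨eA.symm a • x, hU _ x hx, ?_⟩
      show eV (eV.symm (eA (eA.symm a) • eV x)) = a • eV x
      rw [eV.apply_symm_apply, eA.apply_symm_apply])
    refine ⟨W.comap eV.toAddMonoidHom, fun a x hx => ?_, ?_, ?_⟩
    · show eV (eV.symm (eA a • eV x)) ∈ W
      rw [eV.apply_symm_apply]
      exact hW _ _ hx
    · refine le_bot_iff.mp fun x hx => ?_
      have h3 : eV x ∈ U.map eV.toAddMonoidHom ⊓ W := ⟨AddSubgroup.mem_map_of_mem _ hx.1, hx.2⟩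
      rw [h1, AddSubgroup.mem_bot] at h3
      exact AddSubgroup.mem_bot.mpr (eV.injective (h3.trans (map_zero eV).symm))
    · refine eq_top_iff.mpr fun x _ => ?_
      obtain ⟨a, ha, w, hw, e⟩ := AddSubgroup.mem_sup.mp (h2 ▸ AddSubgroup.mem_top (eV x) :
        eV x ∈ U.map eV.toAddMonoidHom ⊔ W)
      obtain ⟨u, hu, rfl⟩ := AddSubgroup.mem_map.mp ha
      refine AddSubgroup.mem_sup.mpr ⟨u, hu, eV.symm w, ?_, ?_⟩
      · show eV (eV.symm w) ∈ W
        rwa [eV.apply_symm_apply]
      · apply eV.injective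
        rw [map_add, eV.apply_symm_apply]
        exact e
  obtain ⟨p, hp⟩ := lin_all FT (Nat.card (Shrink.{0} V)) (Shrink.{0} V) (Shrink.{0} A) le_rfl hodd hcr'
  refine ⟨eV p.1, eV p.2, fun a h1 h2 => ?_⟩
  have h3 : ∀ x : Shrink.{0} V, eA.symm a • x = eV.symm (a • eV x) := fun x => by
    show eV.symm (eA (eA.symm a) • eV x) = _
    rw [eA.apply_symm_apply]
  have h4 := hp (eA.symm a) (by rw [h3, h1, eV.symm_apply_apply]) (by rw [h3, h2, eV.symm_apply_apply])
  refine eq_of_smul_eq_smul (α := V) fun v => ?_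
  have h5 := h4 (eV.symm v)
  rw [h3, eV.apply_symm_apply] at h5
  rw [eV.symm.injective h5, one_smul]

end Cfsg.Agent.BC85.BaseTwo
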